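import Mathlib.RepresentationTheory.Basic
import Mathlib.Data.ZMod.Basic
import Mathlib.Algebra.Field.ZMod
import Mathlib.LinearAlgebra.Quotient.Basic
import Mathlib.LinearAlgebra.Charpoly.Basic
import Mathlib.LinearAlgebra.Eigenspace.Charpoly
import Mathlib.LinearAlgebra.FreeModule.PID
import Mathlib.RingTheory.RootsOfUnity.Complex
import Mathlib.GroupTheory.PGroup
import Mathlib.Algebra.Module.ZMod
import Mathlib.Analysis.Complex.Polynomial.Basic
import Mathlib.Algebra.CharP.Lemmas
import Mathlib.RingTheory.Finiteness.Basic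

/-!
# A reduction modulo `p` of a complex representation

The lattice spanned over `ℤ` by the `ζ ^ i • ρ g` inside the endomorphisms, modulo `ζ - 1`, is a
representation over `ZMod p` whose kernel is a `p`-group and in which an element of order `p`
satisfies `(x - 1) ^ n = 0` for `n` the complex dimension.
-/

set_option autoImplicit false
set_option linter.unusedSectionVars false
set_option linter.style.haveILetI false

namespace CfsgLib.SmallDegree

open Finset Polynomial

theorem exists_pow_one_add {R : Type*} [Ring R] (D : R) (m : ℕ) :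
    ∃ S : R, (1 + D) ^ m = 1 + (m : R) * D + D * (D * S) := by
  induction m with
  | zero => exact ⟨0, by simp⟩
  | succ m ih =>
    obtain ⟨S, hS⟩ := ih
    refine ⟨(m : R) + S + D * S, ?_⟩
    have hc : D * ((m : R) * D) = D * (D * (m : R)) := by rw [(Nat.cast_commute m D).eq]
    rw [pow_succ', hS]
    simp only [mul_add, add_mul, one_mul, mul_one, Nat.cast_add, Nat.cast_one, hc]
    abel

variable {G : Type*} [Group G] [Finite G] {p : ℕ} [hp : Fact p.Prime] {n : ℕ}

theorem exists_model_aux {A : Type} [AddCommGroup A] [Module (ZMod p) A] (φ : G →* Module.End ℤ A) :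
    ∃ ρ : G →* Module.End (ZMod p) A,
      (∀ g (m : ℕ) (a : A), ((ρ g - 1) ^ m : Module.End (ZMod p) A) a =
        ((φ g - 1) ^ m : Module.End ℤ A) a) ∧ ρ.ker = φ.ker := by
  obtain ⟨ρ, hρ⟩ : ∃ ρ : G →* Module.End (ZMod p) A, ∀ g a, ρ g a = φ g a :=
    ⟨{ toFun := fun g => (φ g).toAddMonoidHom.toZModLinearMap p,
       map_one' := LinearMap.ext fun a => by simp,
       map_mul' := fun g h => LinearMap.ext fun a => by simp }, fun _ _ => rfl⟩
  refine ⟨ρ, fun g m => ?_, ?_⟩
  · induction m with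
    | zero => intro a; simp
    | succ m ih =>
      intro a
      simp [pow_succ', ih, hρ]
  · ext g
    simp only [MonoidHom.mem_ker, LinearMap.ext_iff, Module.End.one_apply, hρ]

/-- Additive actions on a group of exponent `p` are linear over `ZMod p`. -/
theorem exists_zmod_model {A : Type} [AddCommGroup A] [Module.Finite ℤ A] (hA : ∀ a : A, p • a = 0)
    (φ : G →* Module.End ℤ A) :
    ∃ (_ : Module (ZMod p) A) (_ : FiniteDimensional (ZMod p) A) (ρ : G →* Module.End (ZMod p) A),
      (∀ g (m : ℕ) (a : A), ((ρ g - 1) ^ m : Module.End (ZMod p) A) a =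
        ((φ g - 1) ^ m : Module.End ℤ A) a) ∧ ρ.ker = φ.ker := by
  letI : Module (ZMod p) A := AddCommGroup.zmodModule hA
  exact ⟨inferInstance, Module.Finite.of_restrictScalars_finite ℤ (ZMod p) A, exists_model_aux φ⟩

theorem exists_reduction (hp3 : 3 ≤ p) (σ : Representation ℂ G (Fin n → ℂ))
    (hinj : Function.Injective σ) {x : G} (hx : orderOf x = p) :
    ∃ (V : Type) (_ : AddCommGroup V) (_ : Module (ZMod p) V) (_ : FiniteDimensional (ZMod p) V)
      (ρ : G →* Module.End (ZMod p) V), (ρ x - 1) ^ n = 0 ∧ IsPGroup p ρ.ker := by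
  classical
  obtain ⟨ζ, hζ⟩ : ∃ ζ : ℂ, IsPrimitiveRoot ζ p :=
    ⟨_, Complex.isPrimitiveRoot_exp p hp.out.ne_zero⟩
  obtain ⟨L, hL⟩ : ∃ L : Submodule ℤ (Module.End ℂ (Fin n → ℂ)),
      Submodule.span ℤ (Set.range fun a : Fin p × G => ζ ^ (a.1 : ℕ) • σ a.2) = L := ⟨_, rfl⟩
  haveI hfin : Module.Finite ℤ L := hL ▸ Module.Finite.span_of_finite ℤ (Set.finite_range _)
  haveI : Module.Free ℤ L := Module.free_of_finite_type_torsion_free'
  have hmem : ∀ (i : ℕ) (g : G), ζ ^ i • σ g ∈ L := fun i g => by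
    rw [← hL, ← pow_mod_orderOf, ← hζ.eq_orderOf]
    exact Submodule.subset_span ⟨(⟨i % p, Nat.mod_lt _ hp.out.pos⟩, g), rfl⟩
  have hσL : ∀ g, σ g ∈ L := fun g => by simpa using hmem 0 g
  have hmulmem : ∀ g, ∀ v ∈ L, σ g * v ∈ L := by
    intro g v hv
    have h : L.map (LinearMap.mulLeft ℤ (σ g)) ≤ L := by
      conv_lhs => rw [← hL]
      rw [Submodule.map_span_le]
      rintro _ ⟨a, rfl⟩
      rw [LinearMap.mulLeft_apply, mul_smul_comm, ← map_mul]
      exact hmem _ _
    exact h (Submodule.mem_map_of_mem hv)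
  have hζmem : ∀ v ∈ L, ζ • v ∈ L := by
    intro v hv
    have h : L.map (DistribSMul.toLinearMap ℤ (Module.End ℂ (Fin n → ℂ)) ζ) ≤ L := by
      conv_lhs => rw [← hL]
      rw [Submodule.map_span_le]
      rintro _ ⟨a, rfl⟩
      rw [DistribSMul.toLinearMap_apply, smul_smul, ← pow_succ']
      exact hmem _ _
    exact h (Submodule.mem_map_of_mem hv)
  obtain ⟨T, hT⟩ : ∃ T : G → Module.End ℤ L, ∀ g v, ((T g v : L) : Module.End ℂ (Fin n → ℂ)) = σ g * v :=
    ⟨fun g => (LinearMap.mulLeft ℤ (σ g)).restrict (hmulmem g), fun _ _ => rfl⟩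
  have hT1 : T 1 = 1 := LinearMap.ext fun v => Subtype.ext (by rw [hT, map_one, one_mul]; rfl)
  have hTm : ∀ g h, T (g * h) = T g * T h := fun g h => LinearMap.ext fun v => Subtype.ext (by
    rw [Module.End.mul_apply, hT, hT, hT, map_mul, mul_assoc])
  obtain ⟨z, hz⟩ : ∃ z : Module.End ℤ L, ∀ v, ((z v : L) : Module.End ℂ (Fin n → ℂ)) = ζ • (v : Module.End ℂ (Fin n → ℂ)) :=
    ⟨(DistribSMul.toLinearMap ℤ (Module.End ℂ (Fin n → ℂ)) ζ).restrict hζmem, fun _ => rfl⟩
  have hzT : ∀ g, Commute z (T g) := fun g => LinearMap.ext fun v => Subtype.ext (by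
    rw [Module.End.mul_apply, Module.End.mul_apply, hz, hT, hT, hz, mul_smul_comm])
  have hzpow : ∀ (i : ℕ) (v : L), (((z ^ i) v : L) : Module.End ℂ (Fin n → ℂ)) = ζ ^ i • (v : Module.End ℂ (Fin n → ℂ)) := by
    intro i
    induction i with
    | zero => simp
    | succ i ih => intro v; rw [pow_succ', Module.End.mul_apply, hz, ih, smul_smul, ← pow_succ']
  have hzp : z ^ p = 1 := LinearMap.ext fun v => Subtype.ext (by rw [hzpow, hζ.pow_eq_one, one_smul]; rfl)
  have hzsum : ∑ i ∈ range p, z ^ i = 0 := LinearMap.ext fun v => Subtype.ext (by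
    rw [LinearMap.sum_apply, Submodule.coe_sum]
    simp only [hzpow, ← Finset.sum_smul, hζ.geom_sum_eq_zero hp.out.one_lt, zero_smul]
    rfl)
  obtain ⟨K, hK, hKc⟩ : ∃ K : Module.End ℤ L, (p : Module.End ℤ L) = (z - 1) * K ∧ Commute (z - 1) K := by
    refine ⟨-∑ i ∈ range p, ∑ j ∈ range i, z ^ j, ?_, ?_⟩
    · rw [mul_neg, mul_sum]
      simp only [mul_geom_sum]
      rw [sum_sub_distrib, hzsum, zero_sub, sum_const, card_range, nsmul_one, neg_neg]
    · exact (Commute.sum_right _ _ _ fun i _ => Commute.sum_right _ _ _ fun j _ =>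
        ((Commute.refl z).pow_right j).sub_left (Commute.one_left _)).neg_right
  obtain ⟨M, hM⟩ : ∃ M : Submodule ℤ L, LinearMap.range (z - 1) = M := ⟨_, rfl⟩
  have hTM : ∀ g, M ≤ M.comap (T g) := by
    intro g v hv
    rw [← hM, LinearMap.mem_range] at hv
    obtain ⟨w, rfl⟩ := hv
    rw [Submodule.mem_comap, ← hM]
    exact ⟨T g w, LinearMap.congr_fun ((hzT g).sub_left (Commute.one_left _)).eq w⟩
  have hpQ : ∀ q : L ⧸ M, p • q = 0 := by
    intro q
    obtain ⟨v, rfl⟩ := Submodule.Quotient.mk_surjective M q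
    rw [← Submodule.Quotient.mk_smul, Submodule.Quotient.mk_eq_zero, ← hM]
    exact ⟨K v, by rw [← Module.End.mul_apply, ← hK, Module.End.natCast_apply]⟩
  obtain ⟨ρ, hρ⟩ : ∃ ρ : G →* Module.End ℤ (L ⧸ M), ∀ g, ρ g = M.mapQ M (T g) (hTM g) :=
    ⟨{ toFun := fun g => M.mapQ M (T g) (hTM g),
       map_one' := LinearMap.ext fun q => by
         obtain ⟨v, rfl⟩ := Submodule.Quotient.mk_surjective M q
         rw [Submodule.mapQ_apply, hT1]; rfl,
       map_mul' := fun g h => LinearMap.ext fun q => by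
         obtain ⟨v, rfl⟩ := Submodule.Quotient.mk_surjective M q
         rw [Module.End.mul_apply, Submodule.mapQ_apply, Submodule.mapQ_apply, Submodule.mapQ_apply,
           hTm]; rfl }, fun _ => rfl⟩
  have hf : ∀ g v, ρ g (Submodule.Quotient.mk v) = Submodule.Quotient.mk (T g v) := fun g v => by
    rw [hρ, Submodule.mapQ_apply]
  suffices hmain : (ρ x - 1) ^ n = 0 ∧ IsPGroup p ρ.ker by
    obtain ⟨i1, i2, i3, hi⟩ := exists_zmod_model hpQ ρ
    refine ⟨(L ⧸ M : Type), inferInstance, i1, i2, i3, ?_, ?_⟩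
    · exact LinearMap.ext fun q => (hi.1 x n q).trans (by rw [hmain.1]; rfl)
    · rw [hi.2]; exact hmain.2
  refine ⟨?_, ?_⟩
  · -- unipotence
    have hzmk : ∀ (k : ℕ) (v : L),
        (Submodule.Quotient.mk ((z ^ k) v) : L ⧸ M) = Submodule.Quotient.mk v := by
      intro k v
      rw [Submodule.Quotient.eq, ← hM]
      exact ⟨(∑ i ∈ range k, z ^ i) v, by rw [← Module.End.mul_apply, mul_geom_sum]; rfl⟩
    have key : ∀ ks : Multiset ℂ, (∀ μ ∈ ks, ∃ k : ℕ, ζ ^ k = μ) → ∀ v : L,
        ∃ w : L, (w : Module.End ℂ (Fin n → ℂ)) =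
            aeval (σ x) (ks.map fun μ => X - C μ).prod * v ∧
          Submodule.Quotient.mk w = ((ρ x - 1) ^ Multiset.card ks) (Submodule.Quotient.mk v) := by
      intro ks
      induction ks using Multiset.induction with
      | empty => exact fun _ v => ⟨v, by simp, by simp⟩
      | cons μ ks ih =>
        intro hks v
        obtain ⟨w, hw1, hw2⟩ := ih (fun ν hν => hks ν (Multiset.mem_cons_of_mem hν)) v
        obtain ⟨k, hk⟩ := hks μ (Multiset.mem_cons_self _ _)
        refine ⟨T x w - (z ^ k) w, ?_, ?_⟩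
        · rw [AddSubgroupClass.coe_sub, hT, hzpow, hw1, hk, Multiset.map_cons, Multiset.prod_cons,
            map_mul, map_sub, aeval_X, aeval_C, mul_assoc, sub_mul, ← Algebra.smul_def]
        · rw [Multiset.card_cons, pow_succ', Module.End.mul_apply, ← hw2, Submodule.Quotient.mk_sub,
            hzmk, LinearMap.sub_apply, hf, Module.End.one_apply]
    obtain ⟨φ, hφ⟩ : ∃ φ : Module.End ℂ (Fin n → ℂ), φ = σ x := ⟨_, rfl⟩
    have hsplit : (LinearMap.charpoly φ).Splits := IsAlgClosed.splits _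
    have hroots : ∀ μ ∈ (LinearMap.charpoly φ).roots, ∃ k : ℕ, ζ ^ k = μ := by
      intro μ hμ
      obtain ⟨v, hv⟩ := ((Module.End.hasEigenvalue_iff_isRoot_charpoly φ μ).2
        (Polynomial.isRoot_of_mem_roots hμ)).exists_hasEigenvector
      have h1 := hv.pow_apply p
      have h2 : φ ^ p = 1 := by rw [hφ, ← map_pow, ← hx, pow_orderOf_eq_one, map_one]
      rw [h2, Module.End.one_apply] at h1
      have h3 : μ ^ p = 1 := by
        refine smul_left_injective ℂ hv.2 ?_
        simpa using h1.symm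
      obtain ⟨k, -, hk⟩ := hζ.eq_pow_of_pow_eq_one h3
      exact ⟨k, hk⟩
    have hcard : Multiset.card (LinearMap.charpoly φ).roots = n := by
      rw [← Polynomial.Splits.natDegree_eq_card_roots hsplit, LinearMap.charpoly_natDegree,
        Module.finrank_fin_fun]
    refine LinearMap.ext fun q => ?_
    obtain ⟨v, rfl⟩ := Submodule.Quotient.mk_surjective M q
    obtain ⟨w, hw1, hw2⟩ := key _ hroots v
    rw [hcard] at hw2
    rw [← hw2, LinearMap.zero_apply]
    have h0 : (w : Module.End ℂ (Fin n → ℂ)) = 0 := by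
      rw [hw1, ← Polynomial.Splits.eq_prod_roots_of_monic hsplit (LinearMap.charpoly_monic φ), ← hφ,
        LinearMap.aeval_self_charpoly, zero_mul]
    rw [show w = 0 from Subtype.ext h0, Submodule.Quotient.mk_zero]
  · -- the kernel
    refine IsPGroup.of_card (n := (Nat.card ρ.ker).factorization p) ?_
    refine Nat.eq_pow_of_factorization_eq_single (Nat.card_pos.ne') (Finsupp.ext fun q => ?_)
    by_cases hq : q = p
    · rw [hq, Finsupp.single_eq_same]
    rw [Finsupp.single_eq_of_ne hq]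
    by_contra hne
    have hqmem : q ∈ (Nat.card ρ.ker).factorization.support := Finsupp.mem_support_iff.2 hne
    rw [Nat.support_factorization] at hqmem
    haveI : Fact q.Prime := ⟨Nat.prime_of_mem_primeFactors hqmem⟩
    obtain ⟨h, hh⟩ := exists_prime_orderOf_dvd_card' q (Nat.dvd_of_mem_primeFactors hqmem)
    obtain ⟨D, hD⟩ : ∃ D, D = T (h : G) - 1 := ⟨_, rfl⟩
    have hDz : Commute (z - 1) D := by
      rw [hD]
      exact ((hzT _).sub_left (Commute.one_left _)).sub_right (Commute.one_right _)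
    have hbase : ∀ v, ∃ w, D v = (z - 1) w := by
      intro v
      have h1 : (Submodule.Quotient.mk (D v) : L ⧸ M) = 0 := by
        rw [hD, LinearMap.sub_apply, Submodule.Quotient.mk_sub, ← hf, MonoidHom.mem_ker.1 h.2,
          Module.End.one_apply, Module.End.one_apply, sub_self]
      rw [Submodule.Quotient.mk_eq_zero, ← hM] at h1
      obtain ⟨w, hw⟩ := h1
      exact ⟨w, hw.symm⟩
    have hTpow : T (h : G) ^ q = 1 := by
      have e : ∀ m, T (h : G) ^ m = T ((h : G) ^ m) := by
        intro m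
        induction m with
        | zero => rw [pow_zero, pow_zero, hT1]
        | succ m ih => rw [pow_succ, pow_succ, hTm, ih]
      rw [e, ← SubgroupClass.coe_pow, ← hh, pow_orderOf_eq_one, OneMemClass.coe_one, hT1]
    obtain ⟨S, hS⟩ := exists_pow_one_add D q
    rw [hD, add_sub_cancel, hTpow, ← hD, add_assoc, left_eq_add] at hS
    have hdiv : ∀ m, 1 ≤ m → ∀ v, ∃ w, D v = ((z - 1) ^ m) w := by
      intro m hm
      induction m, hm using Nat.le_induction with
      | base => simpa using hbase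
      | succ m hm ih =>
        intro v
        obtain ⟨w₁, hw₁⟩ := ih (S v)
        obtain ⟨w₂, hw₂⟩ := ih w₁
        have hq1 : (q : ℤ) • D v = -(D (D (S v))) := by
          have h1 := LinearMap.congr_fun hS v
          simp only [LinearMap.zero_apply, LinearMap.add_apply, Module.End.mul_apply,
            Module.End.natCast_apply] at h1
          rw [natCast_zsmul]
          exact eq_neg_of_add_eq_zero_left h1
        have hq2 : D (D (S v)) = ((z - 1) ^ (m + 1)) (((z - 1) ^ (m - 1)) w₂) := by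
          rw [hw₁, ← Module.End.mul_apply D, ← (hDz.pow_left m).eq, Module.End.mul_apply, hw₂,
            ← Module.End.mul_apply, ← Module.End.mul_apply, ← pow_add, ← pow_add,
            show m + 1 + (m - 1) = m + m by omega]
        have hp1 : ((p ^ (m + 1) : ℕ) : ℤ) • D v = ((z - 1) ^ (m + 1)) ((K ^ (m + 1)) (D v)) := by
          rw [← Module.End.mul_apply, ← hKc.mul_pow, ← hK, ← Nat.cast_pow, Module.End.natCast_apply,
            natCast_zsmul]
        have hcop : Nat.Coprime q (p ^ (m + 1)) :=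
          Nat.Coprime.pow_right _ ((Nat.coprime_primes Fact.out hp.out).2 hq)
        have hb := Nat.gcd_eq_gcd_ab q (p ^ (m + 1))
        rw [hcop.gcd_eq_one, Nat.cast_one] at hb
        refine ⟨Nat.gcdA q (p ^ (m + 1)) • (-((z - 1) ^ (m - 1)) w₂) +
          Nat.gcdB q (p ^ (m + 1)) • (K ^ (m + 1)) (D v), ?_⟩
        rw [map_add, map_zsmul, map_zsmul, map_neg, ← hq2, ← hq1, ← hp1, smul_smul, smul_smul,
          ← add_smul, mul_comm (Nat.gcdA q (p ^ (m + 1))), mul_comm (Nat.gcdB q (p ^ (m + 1))), ← hb,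
          one_smul]
    obtain ⟨K₂, hK₂, hK₂c⟩ : ∃ K₂ : Module.End ℤ L, (z - 1) ^ p = (p : Module.End ℤ L) * K₂ ∧
        Commute (p : Module.End ℤ L) K₂ := by
      obtain ⟨R, hR⟩ := exists_add_pow_prime_eq hp.out (X : ℤ[X]) (-1)
      have hodd : Odd p := hp.out.odd_of_ne_two (by omega)
      have h1 := congrArg (aeval z) hR
      simp only [map_pow, map_add, map_mul, map_natCast, map_neg, map_one, aeval_X, hodd.neg_one_pow] at h1
      rw [hzp, add_neg_cancel, zero_add, ← sub_eq_add_neg] at h1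
      refine ⟨z * -1 * aeval z R, ?_, Nat.cast_commute _ _⟩
      simp only [h1, mul_assoc]
    have hDzero : D = 0 := by
      refine LinearMap.ext fun v => ?_
      let b := Module.Free.chooseBasis ℤ L
      refine b.repr.injective (Finsupp.ext fun i => ?_)
      rw [LinearMap.zero_apply, map_zero, Finsupp.zero_apply]
      obtain ⟨a, ha⟩ : ∃ a, b.repr (D v) i = a := ⟨_, rfl⟩
      rw [ha]
      obtain ⟨w, hw⟩ := hdiv (p * (a.natAbs + 1)) (Nat.mul_pos hp.out.pos (Nat.succ_pos _)) v
      rw [pow_mul, hK₂, hK₂c.mul_pow, Module.End.mul_apply, ← Nat.cast_pow, Module.End.natCast_apply] at hw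
      rw [hw, map_nsmul, Finsupp.smul_apply, nsmul_eq_mul] at ha
      refine Int.eq_zero_of_abs_lt_dvd ⟨_, ha.symm⟩ ?_
      rw [Int.abs_eq_natAbs]
      exact_mod_cast (Nat.lt_succ_self _).trans (Nat.lt_pow_self hp.out.one_lt)
    have hone : (⟨1, by simpa using hσL 1⟩ : L).1 = 1 := rfl
    have h1 : σ (h : G) = 1 := by
      have h2 := congrArg Subtype.val (LinearMap.congr_fun hDzero ⟨1, by simpa using hσL 1⟩)
      rw [hD, LinearMap.sub_apply, AddSubgroupClass.coe_sub, hT, Module.End.one_apply,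
        LinearMap.zero_apply, hone, mul_one] at h2
      exact sub_eq_zero.1 h2
    have h3 : h = 1 := Subtype.ext (hinj (h1.trans (map_one σ).symm))
    rw [h3, orderOf_one] at hh
    exact (Fact.out : q.Prime).one_lt.ne hh

end CfsgLib.SmallDegree
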