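import Cfsg.Agent.S4441
import Cfsg.Agent.Blocks.Congr
import Cfsg.Agent.Char.Burnside
import Cfsg.Agent.Char.NormalSub
import Cfsg.Agent.Char.DegreeRatio
import Cfsg.Agent.Char.Inflation
import Mathlib.GroupTheory.Transfer

/-!
# Groups whose nonlinear irreducible degrees are primes are solvable
-/

set_option autoImplicit false
set_option linter.unusedSectionVars false
set_option linter.style.haveILetI false

namespace CfsgLib.PrimeDegrees

open CfsgLib.Char
open scoped commutatorElement

universe u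

/-- All nonlinear irreducible degrees are primes. -/
def Hyp (G : Type u) [Group G] : Prop :=
  ∀ χ : G → ℂ, Cfsg.IsIrrCharacter G χ → ∀ d : ℕ, χ 1 = d → d = 1 ∨ d.Prime

variable {G : Type u} [Group G] [Finite G]

theorem Hyp.subgroup (h : Hyp G) (N : Subgroup G) [N.Normal] : Hyp N := by
  classical
  haveI := Fintype.ofFinite G
  haveI := Fintype.ofFinite N
  intro θ hθ d hd
  have hne : Cfsg.indFun N θ ≠ 0 := fun h0 => by
    have h1 := congrFun h0 1
    rw [indFun_one, Pi.zero_apply, mul_eq_zero] at h1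
    exact h1.elim (by exact_mod_cast Subgroup.index_ne_zero_of_finite)
      (IsIrrCharacter.apply_one_ne_zero hθ)
  obtain ⟨χ, hχ, hc⟩ :=
    IsCharacter.exists_constituent (IsCharacter.indFun (IsIrrCharacter.isCharacter hθ)) hne
  obtain ⟨k, -, hk⟩ := exists_degree_ratio hχ hθ
    ((classInner_indFun_ne_zero_iff (IsIrrCharacter.isClassFunction hχ) θ).1 hc)
  rw [hd, ← Nat.cast_mul] at hk
  rcases h χ hχ (k * d) hk with h1 | h1
  · exact Or.inl (Nat.eq_one_of_mul_eq_one_left h1)
  · rcases Nat.prime_mul_iff.1 h1 with ⟨-, h2⟩ | ⟨h2, -⟩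
    · exact Or.inl h2
    · exact Or.inr h2

theorem Hyp.quotient (h : Hyp G) (N : Subgroup G) [N.Normal] : Hyp (G ⧸ N) := fun ψ hψ d hd =>
  h _ (IsIrrCharacter.inflate N hψ) d (by simpa [CfsgLib.Char.inflate] using hd)

/-- A nonlinear character of a nonabelian simple group does not have degree two. -/
theorem no_degree_two [IsSimpleGroup G] (hna : ¬ ∀ a b : G, a * b = b * a)
    (hperf : commutator G = ⊤) {χ : G → ℂ} (hχ : Cfsg.IsIrrCharacter G χ) : χ 1 ≠ 2 := by
  intro h2
  haveI := Fintype.ofFinite G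
  obtain ⟨n, ρ, hρ, hρχ⟩ := id hχ
  haveI := hρ
  obtain rfl : n = 2 := by
    have h := congrFun hρχ 1
    rw [ρ.char_one, h2, Module.finrank_fin_fun] at h
    exact_mod_cast h
  obtain ⟨z, hz⟩ := exists_prime_orderOf_dvd_card' (G := G) 2
    (IsIrrCharacter.degree_dvd_card hχ (d := 2) (by rw [h2, Nat.cast_ofNat]))
  have hz1 : z ≠ 1 := fun h => by rw [h, orderOf_one] at hz; exact absurd hz (by norm_num)
  have hz2 : z * z = 1 := by rw [← sq, ← hz, pow_orderOf_eq_one]
  obtain ⟨A, hA⟩ : ∃ A, LinearMap.toMatrixAlgEquiv' (ρ z) = A := ⟨_, rfl⟩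
  have hAA : A * A = 1 := by rw [← hA, ← map_mul, ← map_mul, hz2, map_one, map_one]
  have hdet : A.det = 1 := by
    obtain ⟨f, hf⟩ : ∃ f : G →* ℂ, ∀ g, f g = LinearMap.det (ρ g) :=
      ⟨LinearMap.det.comp ρ, fun _ => rfl⟩
    have hker : commutator G ≤ f.toHomUnits.ker := Abelianization.commutator_subset_ker _
    have h1 : f.toHomUnits z = 1 := by
      have := hker (hperf ▸ Subgroup.mem_top z)
      exact MonoidHom.mem_ker.1 this
    have h3 := congrArg Units.val h1
    rw [MonoidHom.coe_toHomUnits, hf, Units.val_one, ← LinearMap.det_toMatrix'] at h3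
    rw [← hA]
    exact h3
  have htr : χ z = A.trace := by
    rw [← hρχ, ← hA]
    simp only [Representation.character]
    rw [LinearMap.trace_eq_matrix_trace ℂ (Pi.basisFun ℂ (Fin 2))]
    rfl
  have e00 := congrFun (congrFun hAA 0) 0
  have e01 := congrFun (congrFun hAA 0) 1
  have e10 := congrFun (congrFun hAA 1) 0
  have e11 := congrFun (congrFun hAA 1) 1
  simp [Matrix.mul_apply, Fin.sum_univ_two] at e00 e01 e10 e11
  rw [Matrix.det_fin_two] at hdet
  have hnorm : ‖ρ.character z‖ = (Module.finrank ℂ (Fin 2 → ℂ) : ℝ) := by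
    rw [hρχ, htr, Matrix.trace_fin_two, Module.finrank_fin_fun]
    have hsq : (A 0 0 + A 1 1) ^ 2 = (2 : ℂ) ^ 2 := by linear_combination e00 + e11 + 2 * hdet
    have h4 := congrArg (fun w : ℂ => ‖w‖) hsq
    simp only [norm_pow, RCLike.norm_ofNat] at h4
    push_cast
    exact (pow_left_inj₀ (norm_nonneg _) (by norm_num) two_ne_zero).1 h4
  have hone := eq_one_of_norm_eq_of_simple hna ρ hz1 hnorm
  rw [hρχ] at hone
  rw [hone] at h2
  norm_num at h2

/-- In a simple group a prime degree divides the order exactly once. -/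
theorem sylow_card [IsSimpleGroup G] (hna : ¬ ∀ a b : G, a * b = b * a) {χ : G → ℂ}
    (hχ : Cfsg.IsIrrCharacter G χ) {q : ℕ} [hq : Fact q.Prime] (hd : χ 1 = q) (P : Sylow q G) :
    Nat.card P = q := by
  classical
  haveI := Fintype.ofFinite G
  haveI := Fintype.ofFinite (P : Subgroup G)
  have hfaith : ∀ g, χ g = χ 1 → g = 1 := by
    intro g hg
    by_contra hg1
    haveI := kerSubgroup_normal (IsIrrCharacter.isCharacter hχ)
    rcases (inferInstance : (kerSubgroup (IsIrrCharacter.isCharacter hχ)).Normal).eq_bot_or_eq_top with h | h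
    · exact hg1 (Subgroup.mem_bot.1 (h ▸ (mem_kerSubgroup _ g).2 hg))
    · have hconst : χ = (q : ℂ) • fun _ : G => (1 : ℂ) := funext fun y => by
        have := (mem_kerSubgroup (IsIrrCharacter.isCharacter hχ) y).1 (h ▸ Subgroup.mem_top y)
        rw [this, hd]; simp
      have hne : χ ≠ fun _ => 1 := fun e => by
        have := congrFun e 1
        rw [hd] at this
        exact hq.out.ne_one (by exact_mod_cast this)
      have h0 := IsIrrCharacter.classInner_of_ne hχ isIrrCharacter_one hne
      rw [hconst, classInner_smul_left, classInner_one_one, mul_one] at h0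
      exact hq.out.ne_zero (by exact_mod_cast h0)
  obtain ⟨n, ρ, hρ, hρχ⟩ := id hχ
  haveI := hρ
  have hn : Module.finrank ℂ (Fin n → ℂ) = q := by
    have h := congrFun hρχ 1
    rw [ρ.char_one, hd] at h
    exact_mod_cast h
  -- vanishing on elements whose centraliser contains the Sylow subgroup
  have hvan : ∀ x : G, x ≠ 1 → (P : Subgroup G) ≤ Subgroup.centralizer ({x} : Set G) → χ x = 0 := by
    intro x hx hP
    have hcop : Nat.Coprime (Module.finrank ℂ (Fin n → ℂ)) (Subgroup.centralizer ({x} : Set G)).index := by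
      rw [hn, hq.out.coprime_iff_not_dvd]
      exact fun h => P.not_dvd_index (h.trans (Subgroup.index_dvd_of_le hP))
    rcases char_eq_zero_or_norm_eq ρ x hcop with h | h
    · rwa [hρχ] at h
    · exfalso
      have h1 := eq_one_of_norm_eq_of_simple hna ρ hx h
      rw [hρχ] at h1
      rw [h1] at hd
      simp only at hd
      exact hq.out.ne_one (by exact_mod_cast hd.symm)
  have hab : ∀ a b : (P : Subgroup G), a * b = b * a := by
    by_contra hnab
    obtain ⟨s, hs, hsum⟩ := IsCharacter.exists_multiset (IsCharacter.restrict (IsIrrCharacter.isCharacter hχ) (P : Subgroup G))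
    have hval : ∀ (t : Multiset (↥(P : Subgroup G) → ℂ)) (y : (P : Subgroup G)),
        t.sum y = (t.map fun ψ => ψ y).sum :=
      fun t y => map_multiset_sum (Pi.evalAddMonoidHom (fun _ : (P : Subgroup G) => ℂ) y) t
    obtain ⟨ψ, hψ, hψ1⟩ : ∃ ψ ∈ s, ψ 1 ≠ 1 := by
      by_contra hall
      push Not at hall
      refine hnab fun a b => ?_
      have h1 : χ ((a * b * a⁻¹ * b⁻¹ : (P : Subgroup G)) : G) = χ ((1 : (P : Subgroup G)) : G) := by
        have e1 := congrFun hsum (a * b * a⁻¹ * b⁻¹)
        have e2 := congrFun hsum 1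
        rw [hval, Multiset.map_congr rfl (g := fun ψ => ψ 1) fun ψ hψ => ?_, ← hval, ← e2] at e1
        · exact e1
        obtain ⟨lam, rfl⟩ := IsCharacter.exists_hom (IsIrrCharacter.isCharacter (hs ψ hψ)) (hall ψ hψ)
        simp [mul_comm]
      have h2 := hfaith _ (by simpa using h1)
      have h3 : a * b * a⁻¹ * b⁻¹ = 1 := Subtype.ext (by simpa using h2)
      rwa [mul_inv_eq_one, mul_inv_eq_iff_eq_mul] at h3
    have hc : Cfsg.classInner (fun y : (P : Subgroup G) => χ y) ψ ≠ 0 := by
      rw [hsum, classInner_multiset_sum s hs (hs ψ hψ), Nat.cast_ne_zero]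
      exact (Multiset.count_pos.2 hψ).ne'
    obtain ⟨d, -, hdψ⟩ := IsIrrCharacter.exists_degree (hs ψ hψ)
    obtain ⟨a, ha⟩ := P.isPGroup'.exists_card_eq
    obtain ⟨i, -, hi⟩ := (Nat.dvd_prime_pow hq.out).1 (ha ▸ IsIrrCharacter.degree_dvd_card (hs ψ hψ) hdψ)
    have hle := IsCharacter.re_constituent_le (IsCharacter.restrict (IsIrrCharacter.isCharacter hχ) _) (hs ψ hψ) hc
    simp only [OneMemClass.coe_one, hdψ, hd, Complex.natCast_re, Nat.cast_le] at hle
    rcases i with _ | i
    · exact hψ1 (by rw [hdψ, hi]; simp)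
    have hdq : d = q := le_antisymm hle (hi ▸ Nat.le_self_pow (Nat.succ_ne_zero i) q)
    have heq : (fun y : (P : Subgroup G) => χ y) = ψ :=
      IsCharacter.eq_of_constituent (IsCharacter.restrict (IsIrrCharacter.isCharacter hχ) _) (hs ψ hψ) hc
        (by rw [hdψ, hdq]; simpa using hd)
    haveI : Nontrivial (P : Subgroup G) := by
      by_contra hnt
      rw [not_nontrivial_iff_subsingleton] at hnt
      exact hnab fun a b => Subsingleton.elim _ _
    haveI := P.isPGroup'.center_nontrivial
    obtain ⟨z, hz⟩ := exists_ne (1 : Subgroup.center (P : Subgroup G))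
    have hz1 : ((z : (P : Subgroup G)) : G) ≠ 1 := fun h => hz (Subtype.ext (Subtype.ext h))
    have hzc : ∀ y : (P : Subgroup G), y * z.1 = z.1 * y := Subgroup.mem_center_iff.1 z.2
    have h0 : χ ((z : (P : Subgroup G)) : G) = 0 := hvan _ hz1 fun y hy =>
      Subgroup.mem_centralizer_singleton_iff.2 (congrArg Subtype.val (hzc ⟨y, hy⟩))
    obtain ⟨m, σ, hσ, hσψ⟩ := hs ψ hψ
    haveI := hσ
    have hnorm := (norm_character_eq_iff σ z.1).2
      ⟨_, (eq_smul_one_of_commute σ (σ z.1) fun y => by rw [← map_mul, ← map_mul, hzc y]).trans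
        (by rw [Module.End.one_eq_id])⟩
    have hm : Module.finrank ℂ (Fin m → ℂ) = q := by
      have h := congrFun hσψ 1
      rw [σ.char_one, hdψ, hdq] at h
      exact_mod_cast h
    rw [hσψ, ← heq, hm] at hnorm
    simp only [h0, norm_zero] at hnorm
    exact hq.out.ne_zero (by exact_mod_cast hnorm.symm)
  have hvanP : ∀ x : (P : Subgroup G), x ≠ 1 → χ x = 0 := fun x hx =>
    hvan _ (fun h => hx (Subtype.ext h)) fun y hy =>
      Subgroup.mem_centralizer_singleton_iff.2 (congrArg Subtype.val (hab ⟨y, hy⟩ x))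
  obtain ⟨k, hk⟩ := IsCharacter.exists_classInner_eq_natCast
    (IsCharacter.restrict (IsIrrCharacter.isCharacter hχ) (P : Subgroup G))
    (isIrrCharacter_one (G := (P : Subgroup G)))
  rw [classInner_def, Finset.sum_eq_single 1 (fun x _ hx => by simp [hvanP x hx])
    (fun h => absurd (Finset.mem_univ 1) h)] at hk
  simp only [OneMemClass.coe_one, hd, map_one, mul_one] at hk
  have hdvd : Nat.card (P : Subgroup G) ∣ q := by
    refine ⟨k, ?_⟩
    rw [inv_mul_eq_iff_eq_mul₀ (by exact_mod_cast Nat.card_pos.ne')] at hk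
    exact_mod_cast hk
  refine ((Nat.dvd_prime hq.out).1 hdvd).resolve_left fun h => ?_
  have hdiv : q ∣ Nat.card G := IsIrrCharacter.degree_dvd_card hχ (by simpa using hd)
  have := P.not_dvd_index
  rw [← (P : Subgroup G).card_mul_index, h, one_mul] at hdiv
  exact this hdiv

/-- No nonabelian simple group has only prime nonlinear degrees. -/
theorem not_simple [IsSimpleGroup G] (h : Hyp G) (hna : ¬ ∀ a b : G, a * b = b * a) : False := by
  classical
  haveI := Fintype.ofFinite G
  have hperf : commutator G = ⊤ := by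
    refine (inferInstance : (commutator G).Normal).eq_bot_or_eq_top.resolve_left fun hb => hna fun a b => ?_
    have : ⁅a, b⁆ ∈ (⊥ : Subgroup G) :=
      hb ▸ Subgroup.commutator_mem_commutator (Subgroup.mem_top a) (Subgroup.mem_top b)
    exact commutatorElement_eq_one_iff_mul_comm.1 (Subgroup.mem_bot.1 this)
  have hlin : ∀ χ, Cfsg.IsIrrCharacter G χ → χ 1 = 1 → χ = fun _ => 1 := by
    intro χ hχ h1
    obtain ⟨lam, hlam⟩ := IsCharacter.exists_hom (IsIrrCharacter.isCharacter hχ) h1
    rw [hlam]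
    funext g
    have : g ∈ lam.ker := Abelianization.commutator_subset_ker lam (hperf ▸ Subgroup.mem_top g)
    rw [MonoidHom.mem_ker.1 this, Units.val_one]
  choose! deg hdeg0 hdeg using fun (χ : G → ℂ) (hχ : Cfsg.IsIrrCharacter G χ) => IsIrrCharacter.exists_degree hχ
  obtain ⟨χ, hχ, hmax⟩ := (irrFinset G).exists_max_image deg ⟨_, mem_irrFinset.2 isIrrCharacter_one⟩
  rw [mem_irrFinset] at hχ
  obtain ⟨q, hqdef⟩ : ∃ q, deg χ = q := ⟨_, rfl⟩
  rw [hqdef] at hmax
  have hq1 : q ≠ 1 := fun e => hna ((abelian_iff_degree_one (G := G)).2 fun ψ hψ => by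
    have h1 := hmax ψ (mem_irrFinset.2 hψ)
    have h2 := hdeg0 ψ hψ
    rw [hdeg ψ hψ, show deg ψ = 1 by omega, Nat.cast_one])
  have hqp : q.Prime := (h χ hχ q (hqdef ▸ hdeg χ hχ)).resolve_left hq1
  haveI := Fact.mk hqp
  have hq2 : q ≠ 2 := fun e => no_degree_two hna hperf hχ (by rw [hdeg χ hχ, hqdef, e, Nat.cast_ofNat])
  obtain ⟨P⟩ : Nonempty (Sylow q G) := inferInstance
  have hP := sylow_card hna hχ (hqdef ▸ hdeg χ hχ) P
  obtain ⟨e, he⟩ : ∃ e, (Subgroup.centralizer ((P : Subgroup G) : Set G)).relIndex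
      (Subgroup.normalizer ((P : Subgroup G) : Set G)) = e := ⟨_, rfl⟩
  have he1 : e ≠ 1 := by
    intro he1
    rw [he1, Subgroup.relIndex_eq_one] at he
    have hc := MonoidHom.ker_transferSylow_isComplement' P he
    rcases (inferInstance : (MonoidHom.transferSylow P he).ker.Normal).eq_bot_or_eq_top with h' | h'
    · rw [h', Subgroup.isComplement'_bot_left] at hc
      refine hna fun a b => ?_
      letI := isCyclic_of_prime_card (α := (P : Subgroup G)) hP
      exact congrArg Subtype.val (IsCyclic.commutative.is_comm.comm (⟨a, hc ▸ Subgroup.mem_top a⟩ : (P : Subgroup G))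
        ⟨b, hc ▸ Subgroup.mem_top b⟩)
    · rw [h', Subgroup.isComplement'_top_left] at hc
      have hP' : Nat.card (P : Subgroup G) = q := hP
      rw [hc, Subgroup.card_bot] at hP'
      exact hqp.ne_one hP'.symm
  obtain ⟨M, hM⟩ := Block.exists_isPModular hqp
  obtain ⟨X, Y, -, -, hX, -, εX, ε, hXprop, -⟩ :=
    Cfsg.Agent.S4441.result q M hM hq2 P hP e he
  have he0 : e ≠ 0 := by rw [← he]; exact Subgroup.index_ne_zero_of_finite
  obtain ⟨ψ, hψX, hψ⟩ : ∃ ψ ∈ X, (ψ : G → ℂ) ≠ fun _ => 1 := by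
    by_contra hall
    push Not at hall
    have hss : Subsingleton X := ⟨fun a b => Subtype.ext (Subtype.ext ((hall a a.2).trans (hall b b.2).symm))⟩
    haveI : Finite X := Nat.finite_of_card_ne_zero (by omega)
    have := (Finite.card_le_one_iff_subsingleton (α := X)).2 hss
    omega
  obtain ⟨hsign, hcong, -⟩ := hXprop ψ hψX
  obtain ⟨d, hd⟩ : ∃ d, deg (ψ : G → ℂ) = d := ⟨_, rfl⟩
  have hd' : (ψ : G → ℂ) 1 = d := hd ▸ hdeg _ ψ.2
  have hcd : Cfsg.charDegree (ψ : G → ℂ) = d := by
    rw [Cfsg.charDegree, hd', Complex.natCast_re, Nat.floor_natCast]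
  rw [hcd] at hcong
  have hd1 : d ≠ 1 := fun e1 => hψ (hlin _ ψ.2 (by rw [hd', e1, Nat.cast_one]))
  have hdp : d.Prime := (h _ ψ.2 d hd').resolve_left hd1
  have hdle : d ≤ q := hd ▸ hmax _ (mem_irrFinset.2 ψ.2)
  have hd2 : d ≠ 2 := fun e2 => no_degree_two hna hperf ψ.2 (by rw [hd', e2, Nat.cast_ofNat])
  have hq3 : 3 ≤ q := by have := hqp.two_le; omega
  have hd3 : 3 ≤ d := by have := hdp.two_le; omega
  obtain ⟨c, hc⟩ := Int.modEq_iff_dvd.1 hcong
  rcases hsign with hs | hs <;> rw [hs] at hc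
  · have hc0 : c = 0 ∨ c < 0 := by
      by_contra hcon
      push Not at hcon
      nlinarith [hcon.2, hcon.1]
    rcases hc0 with hc0 | hc0
    · rw [hc0, mul_zero] at hc; omega
    · nlinarith
  · have hcneg : c = -1 := by
      have h1 : c ≤ -1 := by
        by_contra hcon
        have : (0 : ℤ) ≤ (q : ℤ) * c := mul_nonneg (by positivity) (by omega)
        omega
      have h2 : -1 ≤ c := by
        by_contra hcon
        have : c ≤ -2 := by omega
        nlinarith
      omega
    rw [hcneg] at hc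
    have hdq : d + 1 = q := by omega
    have := (hdp.odd_of_ne_two hd2)
    have := (hqp.odd_of_ne_two hq2)
    rw [Nat.odd_iff] at *
    omega

theorem main : ∀ (m : ℕ) (G : Type u) [Group G] [Finite G], Nat.card G ≤ m → Hyp G → Group.IsSolvable G := by
  intro m
  induction m with
  | zero => intro G _ _ h; exact absurd (Nat.card_pos (α := G)) (not_lt.2 h)
  | succ m ih =>
    intro G _ _ hcard h
    by_cases hab : ∀ a b : G, a * b = b * a
    · exact Group.isSolvable_of_comm hab
    haveI : Nontrivial G := by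
      by_contra hnt
      rw [not_nontrivial_iff_subsingleton] at hnt
      exact hab fun a b => Subsingleton.elim _ _
    by_cases hs : IsSimpleGroup G
    · exact (not_simple h hab).elim
    obtain ⟨N, hN, hNb, hNt⟩ : ∃ N : Subgroup G, N.Normal ∧ N ≠ ⊥ ∧ N ≠ ⊤ := by
      by_contra hcon
      push Not at hcon
      exact hs ⟨fun N hN => (em (N = ⊥)).elim Or.inl fun hb => Or.inr (hcon N hN hb)⟩
    haveI := hN
    have h1 : Nat.card N < Nat.card G :=
      lt_of_le_of_ne (Subgroup.card_le_card_group N) fun e => hNt (Subgroup.eq_top_of_card_eq N e)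
    have h2 : Nat.card (G ⧸ N) < Nat.card G := by
      have e := N.card_mul_index
      rw [Subgroup.index_eq_card] at e
      have : 1 < Nat.card N := (Subgroup.one_lt_card_iff_ne_bot N).2 hNb
      have := Nat.card_pos (α := G ⧸ N)
      nlinarith
    haveI := ih N (by omega) (h.subgroup N)
    haveI := ih (G ⧸ N) (by omega) (h.quotient N)
    exact (Group.isSolvable_iff_subgroup_quotient N).2 ⟨inferInstance, inferInstance⟩

end CfsgLib.PrimeDegrees
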