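import Cfsg.Agent.SmallDegree.NilpotentBlock
import Mathlib.GroupTheory.GroupAction.Quotient
import Mathlib.Data.ZMod.Basic
import Mathlib.FieldTheory.Finite.Basic
import Mathlib.Algebra.Polynomial.BigOperators
import Mathlib.Algebra.Polynomial.AlgebraMap
import Mathlib.Dynamics.PeriodicPts.Defs
import Mathlib.Data.Nat.Choose.Cast

/-!
# Small nilpotency and small automizer force commuting conjugates

A representation over `ZMod p` in which `x` (generating a Sylow subgroup of order `p`) is unipotent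
of small nilpotency, with small automizer on `⟨x⟩`, sends the conjugates of `x` to commuting
operators: relative traces from `⟨x⟩` show that the line of `log x` is invariant.
-/

set_option autoImplicit false
set_option linter.unusedSectionVars false
set_option linter.style.haveILetI false

namespace CfsgLib.SmallDegree

open Finset Polynomial
open scoped Classical

section Generic

variable {p : ℕ} [hp : Fact p.Prime]

theorem geom_sum_char {R : Type*} [Ring R] [Algebra (ZMod p) R] (D : R) :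
    ∑ i ∈ range p, (1 + D) ^ i = D ^ (p - 1) := by
  have h : ∑ i ∈ range p, (1 + X : (ZMod p)[X]) ^ i = X ^ (p - 1) := by
    apply mul_right_cancel₀ (X_ne_zero (R := ZMod p))
    have h1 := geom_sum_mul (1 + X : (ZMod p)[X]) p
    rw [add_sub_cancel_left, add_pow_char, one_pow, add_sub_cancel_left] at h1
    rw [h1, ← pow_succ, Nat.sub_add_cancel hp.out.one_le]
  simpa [map_sum] using congrArg (aeval D) h

/-- A trace over a group of order `p` vanishes when the nilpotencies on both sides are small. -/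
theorem sum_pow_mul_pow {R : Type*} [Ring R] [Algebra (ZMod p) R] {A B C : R} {a c : ℕ}
    (hA : A ^ a * B = 0) (hC : B * C ^ c = 0) (hac : a + c ≤ p) :
    ∑ i ∈ range p, (1 + A) ^ i * B * (1 + C) ^ i = 0 := by
  set L := LinearMap.mulLeft (ZMod p) (1 + A) with hL
  set Q := LinearMap.mulRight (ZMod p) (1 + C) with hQ
  have hLQ : Commute L Q := LinearMap.commute_mulLeft_right _ _
  have h1 : ∀ i, (1 + A) ^ i * B * (1 + C) ^ i = ((L * Q) ^ i) B := by
    intro i
    rw [hLQ.mul_pow, Module.End.mul_apply, hL, hQ, LinearMap.pow_mulLeft, LinearMap.pow_mulRight]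
    simp [mul_assoc]
  rw [sum_congr rfl fun i _ => h1 i, ← LinearMap.sum_apply]
  obtain ⟨D, hD⟩ : ∃ D, D = LinearMap.mulLeft (ZMod p) A + LinearMap.mulRight (ZMod p) C * L :=
    ⟨_, rfl⟩
  have hLQD : L * Q = 1 + D := by
    rw [hD, hL, hQ]
    refine LinearMap.ext fun v => ?_
    simp [add_mul, mul_add, mul_assoc]
    abel
  rw [hLQD, geom_sum_char, hD]
  have hcomm : Commute (LinearMap.mulLeft (ZMod p) A) (LinearMap.mulRight (ZMod p) C * L) := by
    refine (LinearMap.commute_mulLeft_right _ _).mul_right ?_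
    rw [hL]
    refine LinearMap.ext fun v => ?_
    simp [add_mul, mul_add, mul_assoc]
  rw [hcomm.add_pow, LinearMap.sum_apply]
  refine sum_eq_zero fun j hj => ?_
  rw [Finset.mem_range] at hj
  rw [mul_assoc, (LinearMap.commute_mulLeft_right (1 + A) C).symm.mul_pow]
  simp only [Module.End.mul_apply, LinearMap.pow_mulLeft, LinearMap.pow_mulRight,
    LinearMap.mulLeft_apply, LinearMap.mulRight_apply, Module.End.natCast_apply, smul_mul_assoc,
    mul_smul_comm]
  by_cases hja : a ≤ j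
  · have h0 : A ^ j * B = 0 := by
      rw [← Nat.sub_add_cancel hja, pow_add, mul_assoc, hA, mul_zero]
    have hc : Commute (A ^ j) ((1 + A) ^ (p - 1 - j)) :=
      ((Commute.one_right A).add_right (Commute.refl A)).pow_pow _ _
    rw [← mul_assoc, ← mul_assoc, hc.eq, mul_assoc ((1 + A) ^ _) (A ^ j), h0]
    simp
  · have h0 : B * C ^ (p - 1 - j) = 0 := by
      rw [show p - 1 - j = c + (p - 1 - j - c) by omega, pow_add, ← mul_assoc, hC, zero_mul]
    rw [mul_assoc ((1 + A) ^ _), h0]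
    simp

theorem sum_iterate_mem {α M : Type*} [AddCommGroup M] (σ : α → α) (hσ : ∀ q, σ^[p] q = q)
    (F : α → M) (K : AddSubgroup M) (h : ∀ q, σ q ≠ q → ∑ i ∈ range p, F (σ^[i] q) ∈ K) :
    ∀ s : Finset α, (∀ q ∈ s, σ q ∈ s) → (∀ q ∈ s, σ q ≠ q) → ∑ q ∈ s, F q ∈ K := by
  intro s
  induction s using Finset.strongInduction with
  | _ s ih =>
    intro hinv hfix
    rcases s.eq_empty_or_nonempty with rfl | ⟨q₀, hq₀⟩
    · simp
    set O := (range p).image fun i => σ^[i] q₀ with hO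
    have hmem : ∀ i, σ^[i] q₀ ∈ s := by
      intro i
      induction i with
      | zero => exact hq₀
      | succ i ihi => rw [Function.iterate_succ_apply']; exact hinv _ ihi
    have hOs : O ⊆ s := by
      intro q hq
      obtain ⟨i, -, rfl⟩ := Finset.mem_image.1 hq
      exact hmem i
    have hper : Function.minimalPeriod σ q₀ = p := by
      have hd : Function.minimalPeriod σ q₀ ∣ p := Function.IsPeriodicPt.minimalPeriod_dvd (hσ q₀)
      refine (hp.out.eq_one_or_self_of_dvd _ hd).resolve_left fun h1 => hfix q₀ hq₀ ?_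
      exact Function.minimalPeriod_eq_one_iff_isFixedPt.1 h1
    have hinj : Set.InjOn (fun i => σ^[i] q₀) (range p : Set ℕ) := by
      rw [Finset.coe_range]
      intro i hi j hj hij
      exact Function.iterate_injOn_Iio_minimalPeriod (f := σ) (x := q₀)
        (by rw [hper]; exact hi) (by rw [hper]; exact hj) hij
    have hinv' : ∀ q ∈ s \ O, σ q ∈ s \ O := by
      intro q hq
      rw [Finset.mem_sdiff] at hq ⊢
      refine ⟨hinv q hq.1, fun hqO => hq.2 ?_⟩
      obtain ⟨i, -, hi⟩ := Finset.mem_image.1 hqO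
      have h1 : σ^[p - 1] (σ q) = q := by
        rw [← Function.iterate_succ_apply, Nat.succ_eq_add_one, Nat.sub_add_cancel hp.out.one_le, hσ]
      rw [← h1, ← hi, ← Function.iterate_add_apply, hO, Finset.mem_image]
      exact ⟨(p - 1 + i) % p, Finset.mem_range.2 (Nat.mod_lt _ hp.out.pos),
        by rw [← hper, Function.iterate_mod_minimalPeriod_eq]⟩
    rw [← Finset.sum_sdiff hOs]
    refine K.add_mem (ih _ ?_ hinv' fun q hq => hfix q (Finset.mem_sdiff.1 hq).1) ?_
    · refine Finset.sdiff_ssubset hOs ⟨q₀, ?_⟩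
      exact Finset.mem_image.2 ⟨0, Finset.mem_range.2 hp.out.pos, rfl⟩
    · rw [hO, Finset.sum_image hinj]
      exact h q₀ (hfix q₀ hq₀)

theorem sum_eval_eq_zero (Q : (ZMod p)[X]) (hQ : Q.natDegree < p - 1) :
    ∑ i ∈ range p, Q.eval (i : ZMod p) = 0 := by
  have h0 : ∑ i ∈ range p, Q.eval (i : ZMod p) = ∑ z : ZMod p, Q.eval z := by
    refine Finset.sum_nbij' (fun i : ℕ => (i : ZMod p)) (fun z : ZMod p => z.val) (fun _ _ => Finset.mem_univ _)
      (fun z _ => Finset.mem_range.2 (ZMod.val_lt z)) (fun i hi => ZMod.val_cast_of_lt (Finset.mem_range.1 hi))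
      (fun z _ => ZMod.natCast_zmod_val z) (fun _ _ => rfl)
  rw [h0, sum_congr rfl fun z _ => Q.eval_eq_sum_range z, sum_comm]
  refine sum_eq_zero fun j hj => ?_
  rw [← mul_sum, FiniteField.sum_pow_lt_card_sub_one (K := ZMod p) j
    (by rw [ZMod.card]; rw [Finset.mem_range] at hj; omega), mul_zero]

theorem commute_aeval {R : Type*} [Ring R] [Algebra (ZMod p) R] (N : R) (Q : (ZMod p)[X]) :
    Commute N (aeval N Q) := by
  simpa using (Commute.all X Q).map (aeval N)

theorem one_add_pow_apply {M : Type*} [AddCommGroup M] [Module (ZMod p) M] (U : Module.End (ZMod p) M)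
    {v : M} (hv : U (U (U v)) = 0) (i : ℕ) :
    ((1 + U) ^ i) v = v + (i : ZMod p) • U v + (i.choose 2 : ZMod p) • U (U v) := by
  induction i with
  | zero => simp
  | succ i ih =>
    rw [pow_succ', Module.End.mul_apply, ih, LinearMap.add_apply, Module.End.one_apply, map_add,
      map_add, map_smul, map_smul, hv, smul_zero, add_zero, Nat.choose_succ_succ, Nat.choose_one_right,
      Nat.cast_add, Nat.cast_add, Nat.cast_one, add_smul, add_smul, one_smul]
    abel

end Generic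

section Main

variable {p : ℕ} [hp : Fact p.Prime] {G : Type*} [Group G] [Finite G] {V : Type*} [AddCommGroup V]
  [Module (ZMod p) V] [FiniteDimensional (ZMod p) V] (ρ : G →* Module.End (ZMod p) V)

/-- Conjugation on operators. -/
def cj : G →* Module.End (ZMod p) (Module.End (ZMod p) V) where
  toFun g := LinearMap.mulLeft (ZMod p) (ρ g) * LinearMap.mulRight (ZMod p) (ρ g⁻¹)
  map_one' := LinearMap.ext fun A => by simp
  map_mul' g h := LinearMap.ext fun A => by simp [mul_assoc]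

theorem cj_apply (g : G) (A : Module.End (ZMod p) V) : cj ρ g A = ρ g * A * ρ g⁻¹ := by
  simp [cj, mul_assoc]

theorem cj_inv_mul (g : G) : cj ρ g⁻¹ * cj ρ g = 1 := by rw [← map_mul, inv_mul_cancel, map_one]

theorem cj_mul_inv (g : G) : cj ρ g * cj ρ g⁻¹ = 1 := by rw [← map_mul, mul_inv_cancel, map_one]

theorem sub_one_pow_inv {x : G} {r : ℕ} (hr : (ρ x - 1) ^ r = 0) : (ρ x⁻¹ - 1) ^ r = 0 := by
  have h1 : ρ x⁻¹ - 1 = -((ρ x - 1) * ρ x⁻¹) := by
    rw [sub_mul, ← map_mul, mul_inv_cancel, map_one, one_mul, neg_sub]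
  have hc : Commute (ρ x - 1) (ρ x⁻¹) :=
    ((Commute.refl x).inv_right.map ρ).sub_left (Commute.one_left _)
  rw [h1, neg_pow, hc.mul_pow, hr, zero_mul, mul_zero]

theorem cj_sub_one_pow {x : G} {r : ℕ} (hr : (ρ x - 1) ^ r = 0) :
    (cj ρ x - 1) ^ (2 * r - 1) = 0 := by
  obtain ⟨a, ha⟩ : ∃ a, a = LinearMap.mulLeft (ZMod p) (ρ x - 1) * LinearMap.mulRight (ZMod p) (ρ x⁻¹) :=
    ⟨_, rfl⟩
  obtain ⟨b, hb⟩ : ∃ b, b = LinearMap.mulRight (ZMod p) (ρ x⁻¹ - 1) := ⟨_, rfl⟩
  have hsum : cj ρ x - 1 = a + b := by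
    refine LinearMap.ext fun A => ?_
    simp [ha, hb, cj_apply, sub_mul, mul_sub, mul_assoc]
  have ha0 : a ^ r = 0 := by
    rw [ha, (LinearMap.commute_mulLeft_right _ _).mul_pow, LinearMap.pow_mulLeft, hr]
    exact LinearMap.ext fun A => by simp
  have hb0 : b ^ r = 0 := by
    rw [hb, LinearMap.pow_mulRight, sub_one_pow_inv ρ hr]
    exact LinearMap.ext fun A => by simp
  have hab : Commute a b := by
    rw [ha, hb]
    refine LinearMap.ext fun A => ?_
    simp [sub_mul, mul_sub, mul_assoc]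
  rw [hsum]
  exact hab.add_pow_eq_zero_of_add_le_succ_of_pow_eq_zero ha0 hb0 (by omega)

variable (x : G)

/-- The logarithm of `ρ x` up to sign. -/
noncomputable def logX : Module.End (ZMod p) V := ∑ j : ZMod p, j⁻¹ • ρ x ^ j.val

theorem commute_logX : Commute (ρ x) (logX ρ x) :=
  Commute.sum_right _ _ _ fun j _ => ((Commute.refl (ρ x)).pow_right _).smul_right _

variable {x}

theorem cj_logX_eq (hx : orderOf x = p) {g : G} {a : ZMod p} (ha : a ≠ 0)
    (hg : g * x * g⁻¹ = x ^ a.val) : cj ρ g (logX ρ x) = a • logX ρ x := by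
  rw [cj_apply, logX, mul_sum, sum_mul, smul_sum]
  refine Fintype.sum_equiv (Equiv.mulLeft₀ a ha) _ _ fun j => ?_
  rw [mul_smul_comm, smul_mul_assoc, ← map_pow, ← map_mul, ← map_mul, ← conj_pow, hg, smul_smul,
    Equiv.mulLeft₀_apply, mul_inv, ← mul_assoc, mul_inv_cancel₀ ha, one_mul, ← map_pow, ← pow_mul,
    ← pow_mod_orderOf x (a.val * j.val), hx, ← ZMod.val_mul]

theorem exists_logX_eq (hp3 : 3 ≤ p) :
    ∃ Q : (ZMod p)[X], logX ρ x = -(ρ x - 1) + (ρ x - 1) ^ 2 * aeval (ρ x - 1) Q := by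
  obtain ⟨N, hN⟩ : ∃ N, N = ρ x - 1 := ⟨_, rfl⟩
  have hm : ∀ m : ℕ, ∃ Q : (ZMod p)[X], ρ x ^ m = 1 + (m : ZMod p) • N + N ^ 2 * aeval N Q := by
    intro m
    induction m with
    | zero => exact ⟨0, by simp⟩
    | succ m ih =>
      obtain ⟨Q, hQ⟩ := ih
      refine ⟨Q + X * Q + Polynomial.C (m : ZMod p), ?_⟩
      have hx : ρ x = 1 + N := by rw [hN]; abel
      rw [pow_succ', hQ, hx]
      simp only [map_add, map_mul, aeval_X, aeval_C, Algebra.algebraMap_eq_smul_one, Nat.cast_add,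
        Nat.cast_one, add_smul, one_smul, mul_add, add_mul, one_mul, mul_one, mul_smul_comm]
      rw [← mul_assoc N (N ^ 2), ← mul_assoc (N ^ 2) N, ← pow_succ', ← pow_succ, ← sq, smul_add]
      abel
  choose Q hQ using hm
  refine ⟨∑ j : ZMod p, Polynomial.C j⁻¹ * Q j.val, ?_⟩
  rw [← hN]
  have h0 : ∑ j : ZMod p, j⁻¹ = 0 := by
    rw [Fintype.sum_equiv (Equiv.inv (ZMod p)) (fun j => j⁻¹) (fun j => j) (fun j => rfl)]
    simpa using FiniteField.sum_pow_lt_card_sub_one (K := ZMod p) 1 (by rw [ZMod.card]; omega)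
  have h1 : ∑ j : ZMod p, j⁻¹ * j = -1 := by
    rw [← Finset.add_sum_erase _ _ (Finset.mem_univ (0 : ZMod p)), mul_zero, zero_add,
      Finset.sum_congr rfl fun j hj => inv_mul_cancel₀ (Finset.ne_of_mem_erase hj), Finset.sum_const,
      Finset.card_erase_of_mem (Finset.mem_univ _), Finset.card_univ, ZMod.card, nsmul_eq_mul, mul_one,
      Nat.cast_sub hp.out.one_le]
    simp
  simp only [logX, hQ, smul_add, smul_smul, ZMod.natCast_zmod_val, sum_add_distrib, ← sum_smul, h0,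
    h1, zero_smul, zero_add, neg_smul, one_smul, map_sum, mul_sum, map_mul, aeval_C,
    ← Algebra.smul_def, mul_smul_comm]

theorem commute_of_commute_logX (hp3 : 3 ≤ p) {r : ℕ} (hr : (ρ x - 1) ^ r = 0)
    {y : Module.End (ZMod p) V} (hy : Commute y (logX ρ x)) : Commute y (ρ x) := by
  obtain ⟨Q, hQ⟩ := exists_logX_eq ρ (x := x) hp3
  obtain ⟨N, hN⟩ : ∃ N, N = ρ x - 1 := ⟨_, rfl⟩
  rw [← hN] at hQ hr
  obtain ⟨u, hu⟩ : ∃ u : (ZMod p)[X], u = -1 + X * Q := ⟨_, rfl⟩
  have hX : logX ρ x = N * aeval N u := by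
    rw [hQ, hu]
    simp [mul_add, ← mul_assoc, sq]
  have key : ∀ d j : ℕ, 1 ≤ j → r ≤ j + d → ∀ P : (ZMod p)[X], Commute y (N ^ j * aeval N P) := by
    intro d
    induction d with
    | zero =>
      intro j _ hj P
      rw [pow_eq_zero_of_le (by omega) hr, zero_mul]
      exact Commute.zero_right y
    | succ d ih =>
      intro j hj1 hj P
      -- the powers of `N` modulo higher ones
      have hNj : Commute y (N ^ j) := by
        have h1 : Commute y (logX ρ x ^ j) := hy.pow_right j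
        have hc : Commute N (aeval N u) := commute_aeval N u
        rw [hX, hc.mul_pow, ← map_pow] at h1
        obtain ⟨s, hs⟩ : X ∣ u ^ j - Polynomial.C ((-1 : ZMod p) ^ j) := by
          rw [X_dvd_iff]
          simp [coeff_zero_eq_eval_zero, hu]
        rw [sub_eq_iff_eq_add] at hs
        rw [hs, map_add, map_mul, aeval_X, aeval_C, mul_add, ← mul_assoc, ← pow_succ] at h1
        have h2 := h1.sub_right (ih (j + 1) (by omega) (by omega) s)
        rw [add_sub_cancel_left, Algebra.algebraMap_eq_smul_one, mul_smul_comm, mul_one] at h2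
        have h3 := h2.smul_right ((-1 : ZMod p) ^ j)
        rwa [smul_smul, ← mul_pow, neg_one_mul, neg_neg, one_pow, one_smul] at h3
      obtain ⟨s, hs⟩ : X ∣ P - Polynomial.C (P.coeff 0) := by rw [X_dvd_iff]; simp
      rw [sub_eq_iff_eq_add] at hs
      rw [hs, map_add, map_mul, aeval_X, aeval_C, mul_add, ← mul_assoc, ← pow_succ,
        Algebra.algebraMap_eq_smul_one, mul_smul_comm, mul_one]
      exact (ih (j + 1) (by omega) (by omega) s).add_right (hNj.smul_right _)
  have h := key r 1 le_rfl (by omega) 1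
  rw [map_one, mul_one, pow_one, hN] at h
  simpa using h.add_right (Commute.one_right y)

/-- The main statement: conjugates of `x` act by commuting operators. -/
theorem commute_conj (hx : orderOf x = p) (hsq : ¬ p ^ 2 ∣ Nat.card G) {r : ℕ}
    (hr : (ρ x - 1) ^ r = 0) (hrp : 2 * r < p - 1) {e : ℕ} (he0 : 0 < e) (hep : 2 * e < p - 1)
    (he : ∀ a : ZMod p, (∃ g : G, g * x * g⁻¹ = x ^ a.val) → a ^ e = 1) (h : G) :
    Commute (ρ (h * x * h⁻¹)) (ρ x) := by
  by_cases hx1 : ρ x = 1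
  · rw [hx1]; exact Commute.one_right _
  have hr1 : 1 ≤ r := by
    by_contra h0
    rw [show r = 0 by omega, pow_zero] at hr
    exact hx1 (eq_of_zero_eq_one hr.symm _ _)
  have hp3 : 3 ≤ p := by omega
  haveI : CharP (ZMod p) p := ZMod.charP p
  have hN0 : ρ x - 1 ≠ 0 := sub_ne_zero.2 hx1
  obtain ⟨Y, B, hY, hB, htr, htr2⟩ := exists_pair (p := p) hr (by omega) hN0
  obtain ⟨N, hN⟩ : ∃ N, N = ρ x - 1 := ⟨_, rfl⟩
  rw [← hN] at hY hB htr htr2 hN0
  obtain ⟨Q, hQ⟩ := exists_logX_eq ρ (x := x) hp3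
  rw [← hN] at hQ
  obtain ⟨L, hLdef⟩ : ∃ L, L = logX ρ x := ⟨_, rfl⟩
  rw [← hLdef] at hQ
  obtain ⟨u, hu⟩ : ∃ u, u = cj ρ x := ⟨_, rfl⟩
  obtain ⟨U, hU⟩ : ∃ U, U = u - 1 := ⟨_, rfl⟩
  have hu1 : u = 1 + U := by rw [hU]; abel
  obtain ⟨xi, hxi⟩ : ∃ xi, xi = ρ x⁻¹ := ⟨_, rfl⟩
  have hxx : ρ x * xi = 1 := by rw [hxi, ← map_mul, mul_inv_cancel, map_one]
  have hNx : Commute N (ρ x) := by rw [hN]; exact (Commute.refl _).sub_left (Commute.one_left _)
  have hNxi : Commute N xi := by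
    rw [hN, hxi]
    exact ((Commute.refl x).inv_right.map ρ).sub_left (Commute.one_left _)
  have hUA : ∀ A, U A = br N A * xi := fun A => by
    rw [hU, LinearMap.sub_apply, hu, cj_apply, Module.End.one_apply, ← hxi, br, hN]
    simp only [sub_mul, mul_sub, one_mul, mul_one, sub_sub_sub_cancel_right]
    rw [mul_assoc A (ρ x) xi, hxx, mul_one]
  have hU2A : ∀ A, U (U A) = br N (br N A) * (xi * xi) := fun A => by
    rw [hUA, hUA, br_mul_right hNxi, mul_assoc]
  -- the functional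
  obtain ⟨φ, hφU, hφX⟩ : ∃ φ : Module.End (ZMod p) V →ₗ[ZMod p] ZMod p,
      (∀ A, φ (U (U (U A))) = 0) ∧ φ L = 1 := by
    obtain ⟨c, hc⟩ : ∃ c, c = LinearMap.trace (ZMod p) V (L * B) := ⟨_, rfl⟩
    have hc0 : c ≠ 0 := by
      rw [hc, hQ, add_mul, neg_mul, map_add, map_neg, htr2 _ (commute_aeval N Q), add_zero, neg_ne_zero]
      exact htr
    refine ⟨c⁻¹ • (LinearMap.trace (ZMod p) V ∘ₗ LinearMap.mulRight (ZMod p) B), fun A => ?_, ?_⟩
    · simp only [LinearMap.smul_apply, LinearMap.comp_apply, LinearMap.mulRight_apply]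
      rw [hU2A, hUA, br_mul_right hNxi, br_mul_right hNxi, mul_assoc, mul_assoc, trace_br, trace_br,
        trace_br, br_mul_left hNxi, br_mul_left hNxi, br_mul_left hNxi,
        br_mul_left (hNxi.mul_right hNxi), br_mul_left (hNxi.mul_right hNxi),
        br_mul_left (hNxi.mul_right hNxi), hB]
      simp
    · simp [← hc, hc0]
  -- the preimage of `L`
  obtain ⟨Z, hZ⟩ : ∃ Z, U (U Z) = L := by
    refine ⟨(-2 : ZMod p)⁻¹ • (Y * ((-1 + N * aeval N Q) * (ρ x * ρ x))), ?_⟩
    have h2 : (-2 : ZMod p) ≠ 0 := by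
      rw [neg_ne_zero]
      intro h2
      have h2' : ((2 : ℕ) : ZMod p) = 0 := by exact_mod_cast h2
      have := Nat.le_of_dvd two_pos ((ZMod.natCast_eq_zero_iff _ _).1 h2')
      omega
    rw [hU2A, br, br]
    simp only [mul_smul_comm, smul_mul_assoc, ← smul_sub]
    have hcw : Commute N ((-1 + N * aeval N Q) * (ρ x * ρ x)) := by
      refine Commute.mul_right ?_ (hNx.mul_right hNx)
      exact (Commute.one_right N).neg_right.add_right ((Commute.refl N).mul_right
        (commute_aeval N Q))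
    have h3 := br_mul_right hcw Y
    have h4 := br_mul_right hcw (br N Y)
    rw [← h3] at h4
    simp only [br] at h4 hY
    rw [h4, hY, mul_assoc (-(2 * N)), mul_assoc (-1 + N * aeval N Q)]
    rw [mul_assoc (ρ x) (ρ x), ← mul_assoc (ρ x) xi xi, hxx, one_mul, hxx, mul_one, hQ]
    rw [inv_smul_eq_iff₀ h2]
    simp only [mul_add, mul_neg, mul_one, neg_mul, sq, smul_add, smul_neg, neg_smul, neg_neg,
      two_smul, two_mul, add_mul, ← mul_assoc, neg_add_rev]
  have hUL : U L = 0 := by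
    rw [hU, LinearMap.sub_apply, hu, cj_apply, Module.End.one_apply, sub_eq_zero, hLdef,
      (commute_logX ρ x).eq, mul_assoc, ← hxi, hxx, mul_one]
  -- the projection at one coset
  obtain ⟨π₀, hπ₀⟩ : ∃ π₀ : Module.End (ZMod p) (Module.End (ZMod p) V),
      ∀ A, π₀ A = φ (U (U A)) • Z + φ (U A) • U Z + φ A • L :=
    ⟨(φ ∘ₗ U ∘ₗ U).smulRight Z + (φ ∘ₗ U).smulRight (U Z) + φ.smulRight L, fun A => rfl⟩
  have hπU : Commute π₀ U := LinearMap.ext fun A => by
    simp [hπ₀, hφU, hZ, hUL]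
  have hU3π : U ^ 3 * π₀ = 0 := LinearMap.ext fun A => by
    simp [pow_succ, hπ₀, hZ, hUL]
  have hπL : π₀ L = L := by simp [hπ₀, hUL, hφX]
  have hπu : Commute π₀ u := by rw [hu1]; exact (Commute.one_right _).add_right hπU
  -- cosets
  obtain ⟨P, hP⟩ : ∃ P, Subgroup.zpowers x = P := ⟨_, rfl⟩
  haveI : Fintype (G ⧸ P) := Fintype.ofFinite _
  have hPpow : ∀ {y : G}, y ∈ P → ∃ i : ℕ, x ^ i = y := fun {y} hy => by
    rw [← hP, ← mem_powers_iff_mem_zpowers, Submonoid.mem_powers_iff] at hy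
    exact hy
  have hPcard : Nat.card P = p := by rw [← hP, Nat.card_zpowers, hx]
  have hindex : ¬ p ∣ Nat.card (G ⧸ P) := fun hd => hsq <| by
    rw [← P.card_mul_index, hPcard, sq, Subgroup.index_eq_card]
    exact Nat.mul_dvd_mul_left p hd
  have hper : ∀ q : G ⧸ P, (fun q => x • q)^[p] q = q := fun q => by
    simp only [smul_iterate]
    rw [← hx, pow_orderOf_eq_one, one_smul]
  have hfixinv : ∀ q ∈ univ.filter (fun q : G ⧸ P => x • q ≠ q),
      x • q ∈ univ.filter (fun q : G ⧸ P => x • q ≠ q) := fun q hq => by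
    simp only [mem_filter, mem_univ, true_and] at hq ⊢
    exact fun e => hq (MulAction.injective x e)
  -- fixed cosets
  have hfixed : ∀ q : G ⧸ P, x • q = q → ∃ a : ZMod p, a ≠ 0 ∧ q.out * x * q.out⁻¹ = x ^ a.val ∧
      ∃ b : ℕ, q.out⁻¹ * x * q.out = x ^ b := by
    intro q hq
    have h1 : ((q.out : G) : G ⧸ P) = ((x * q.out : G) : G ⧸ P) := by
      conv_rhs => rw [← smul_eq_mul, ← MulAction.Quotient.smul_coe, QuotientGroup.out_eq', hq]
      exact QuotientGroup.out_eq' q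
    rw [QuotientGroup.eq] at h1
    obtain ⟨b, hb⟩ := hPpow h1
    rw [← mul_assoc] at hb
    have hb0 : (b : ZMod p) ≠ 0 := fun h0 => by
      rw [ZMod.natCast_eq_zero_iff, ← hx] at h0
      rw [orderOf_dvd_iff_pow_eq_one.1 h0] at hb
      have : x = 1 := by
        have := congrArg (fun w => q.out * w * q.out⁻¹) hb
        simpa [mul_assoc] using this.symm
      rw [this, orderOf_one] at hx
      exact hp.out.one_lt.ne hx
    refine ⟨(b : ZMod p)⁻¹, inv_ne_zero hb0, ?_, b, hb.symm⟩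
    have h2 : q.out * (x ^ b) * q.out⁻¹ = x := by rw [hb]; group
    have h3 : x ^ (b * ((b : ZMod p)⁻¹).val) = x := by
      conv_rhs => rw [← pow_one x]
      rw [← pow_mod_orderOf, hx]
      conv_rhs => rw [← pow_mod_orderOf, hx]
      congr 1
      refine (ZMod.natCast_eq_natCast_iff' _ _ _).1 ?_
      rw [Nat.cast_mul, ZMod.natCast_zmod_val, mul_inv_cancel₀ hb0, Nat.cast_one]
    conv_lhs => rw [← h3, pow_mul, ← conj_pow, h2]
  obtain ⟨Fix, hFix⟩ : ∃ Fix, Fix = univ.filter (fun q : G ⧸ P => x • q = q) := ⟨_, rfl⟩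
  obtain ⟨m, hm⟩ : ∃ m : ZMod p, m = (Fix.card : ZMod p) := ⟨_, rfl⟩
  have hm0 : m ≠ 0 := by
    intro h0
    have hz : ((univ.filter (fun q : G ⧸ P => ¬ x • q = q)).card : ZMod p) = 0 := by
      have := sum_iterate_mem (fun q : G ⧸ P => x • q) hper (fun _ => (1 : ZMod p)) ⊥
        (fun q _ => by simp) _ hfixinv (fun q hq => (mem_filter.1 hq).2)
      simpa using this
    have htot := card_filter_add_card_filter_not (s := (univ : Finset (G ⧸ P))) (fun q => x • q = q)
    apply hindex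
    rw [← ZMod.natCast_eq_zero_iff, Nat.card_eq_fintype_card, ← Finset.card_univ, ← htot, Nat.cast_add,
      hz, add_zero, ← hFix, ← hm, h0]
  -- the relative trace of the projection
  obtain ⟨F, hF⟩ : ∃ F : G ⧸ P → Module.End (ZMod p) (Module.End (ZMod p) V),
      ∀ q, F q = cj ρ q.out * π₀ * cj ρ q.out⁻¹ := ⟨_, fun _ => rfl⟩
  have hFmk : ∀ g : G, F (g : G ⧸ P) = cj ρ g * π₀ * cj ρ g⁻¹ := by
    intro g
    obtain ⟨y, hy⟩ := QuotientGroup.mk_out_eq_mul P g
    obtain ⟨i, hi⟩ := hPpow y.2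
    rw [hF, hy, ← hi, mul_inv_rev, map_mul, map_mul, map_pow, ← hu]
    rw [mul_assoc (cj ρ g), ← (hπu.pow_right i).eq, mul_assoc, mul_assoc, ← mul_assoc (u ^ i), hu,
      ← map_pow, cj_mul_inv, one_mul, mul_assoc]
  obtain ⟨T, hT⟩ : ∃ T, T = ∑ q, F q := ⟨_, rfl⟩
  have hTeq : ∀ g : G, cj ρ g * T = T * cj ρ g := by
    intro g
    have h1 : cj ρ g * T * cj ρ g⁻¹ = T := by
      rw [hT, mul_sum, sum_mul]
      refine Fintype.sum_equiv (MulAction.toPerm g) _ _ fun q => ?_
      conv_rhs => rw [MulAction.toPerm_apply, ← QuotientGroup.out_eq' q, MulAction.Quotient.smul_coe,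
        smul_eq_mul, hFmk, mul_inv_rev, map_mul, map_mul]
      rw [hF]
      simp only [mul_assoc]
    conv_rhs => rw [← h1, mul_assoc, cj_inv_mul, mul_one]
  obtain ⟨π, hπ⟩ : ∃ π, π = ∑ q ∈ Fix, F q := ⟨_, rfl⟩
  obtain ⟨R, hR⟩ : ∃ R, R = ∑ q ∈ univ.filter (fun q : G ⧸ P => ¬ x • q = q), F q := ⟨_, rfl⟩
  have hTπR : T = π + R := by rw [hT, hπ, hR, hFix, sum_filter_add_sum_filter_not]
  have hgeom : ∀ b : ℕ, cj ρ (x ^ b) - 1 = U * ∑ i ∈ range b, u ^ i := fun b => by
    rw [map_pow, ← hu, hU, mul_geom_sum]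
  have hFfix : ∀ q ∈ Fix, Commute (F q) U ∧ U ^ 3 * F q = 0 ∧ F q L = L := by
    intro q hq
    rw [hFix, mem_filter] at hq
    obtain ⟨a, ha0, ha, b, hb⟩ := hfixed q hq.2
    obtain ⟨g, hg⟩ : ∃ g, g = q.out := ⟨_, rfl⟩
    rw [← hg] at ha hb
    rw [hF, ← hg]
    obtain ⟨S, hS⟩ : ∃ S, S = ∑ i ∈ range b, u ^ i := ⟨_, rfl⟩
    have hUS : Commute U S := by
      rw [hS, hu1]
      exact Commute.sum_right _ _ _ fun i _ => ((Commute.one_right U).add_right (Commute.refl U)).pow_right i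
    have h1 : U * cj ρ g = cj ρ g * (U * S) := by
      rw [hS, ← hgeom b, ← hb, map_mul, map_mul, mul_sub, mul_one, ← mul_assoc, ← mul_assoc,
        cj_mul_inv, one_mul, ← hu, hU, sub_mul, one_mul]
    have hπS : Commute π₀ (U * S) := by
      rw [hS]
      exact hπU.mul_right (Commute.sum_right _ _ _ fun i _ => hπu.pow_right i)
    have h2 : cj ρ g⁻¹ * U = U * S * cj ρ g⁻¹ := by
      calc cj ρ g⁻¹ * U = cj ρ g⁻¹ * (U * cj ρ g) * cj ρ g⁻¹ := by
            rw [mul_assoc, mul_assoc U, cj_mul_inv, mul_one]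
        _ = _ := by rw [h1, ← mul_assoc (cj ρ g⁻¹), cj_inv_mul, one_mul]
    refine ⟨?_, ?_, ?_⟩
    · show _ * _ = _ * _
      rw [mul_assoc, h2, ← mul_assoc U, ← mul_assoc U, h1, mul_assoc (cj ρ g) (U * S) π₀, ← hπS.eq,
        mul_assoc, mul_assoc, mul_assoc, mul_assoc, mul_assoc U S]
    · have h3 : U ^ 3 * cj ρ g = cj ρ g * (U * S) ^ 3 :=
        ((show SemiconjBy (cj ρ g) (U * S) U from h1.symm).pow_right 3).eq.symm
      rw [← mul_assoc, ← mul_assoc, h3, hUS.mul_pow, (hUS.pow_pow 3 3).eq,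
        mul_assoc (cj ρ g) _ π₀, mul_assoc (S ^ 3) (U ^ 3) π₀, hU3π]
      simp
    · have h4 : cj ρ g⁻¹ L = a⁻¹ • L := by
        rw [eq_inv_smul_iff₀ ha0, ← map_smul, hLdef, ← cj_logX_eq ρ hx ha0 ha,
          ← Module.End.mul_apply, cj_inv_mul, Module.End.one_apply]
      rw [Module.End.mul_apply, Module.End.mul_apply, h4, map_smul, map_smul, hπL, hLdef,
        cj_logX_eq ρ hx ha0 ha, smul_smul, inv_mul_cancel₀ ha0, one_smul]
  have hπU' : Commute π U := by
    rw [hπ]; exact Commute.sum_left _ _ _ fun q hq => (hFfix q hq).1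
  have hU3π' : U ^ 3 * π = 0 := by
    rw [hπ, mul_sum]; exact sum_eq_zero fun q hq => (hFfix q hq).2.1
  have hπL' : π L = m • L := by
    rw [hπ, LinearMap.sum_apply, sum_congr rfl fun q hq => (hFfix q hq).2.2, sum_const, hm,
      ← Nat.cast_smul_eq_nsmul (ZMod p)]
  obtain ⟨U', hU'⟩ : ∃ U', U' = cj ρ x⁻¹ - 1 := ⟨_, rfl⟩
  have hu' : cj ρ x⁻¹ = 1 + U' := by rw [hU']; abel
  have hUc : Commute U (cj ρ x⁻¹) := by
    rw [hU, hu]
    exact ((Commute.refl x).inv_right.map (cj ρ)).sub_left (Commute.one_left _)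
  have hU'A : ∀ A, U' A = -(cj ρ x⁻¹ (U A)) := fun A => by
    rw [hU', hU, LinearMap.sub_apply, LinearMap.sub_apply, map_sub, hu, ← Module.End.mul_apply,
      cj_inv_mul, Module.End.one_apply, neg_sub]
  have hU'3 : ∀ A, U (U (U A)) = 0 → U' (U' (U' A)) = 0 := fun A hA => by
    have hc : ∀ A, U (cj ρ x⁻¹ A) = cj ρ x⁻¹ (U A) := fun A => LinearMap.congr_fun hUc.eq A
    simp [hU'A, hc, hA]
  have hπu' : Commute π (cj ρ x⁻¹) := by
    have h : Commute π u := by rw [hu1]; exact (Commute.one_right _).add_right hπU'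
    show _ = _
    calc π * cj ρ x⁻¹ = cj ρ x⁻¹ * (u * π) * cj ρ x⁻¹ := by
          rw [hu, ← mul_assoc (cj ρ x⁻¹), cj_inv_mul, one_mul]
      _ = _ := by rw [← h.eq, mul_assoc, mul_assoc π, hu, cj_mul_inv, mul_one]
  have hπU'c : Commute π U' := by
    rw [hU']; exact hπu'.sub_right (Commute.one_right _)
  have hUn : U ^ (2 * r - 1) = 0 := by rw [hU, hu]; exact cj_sub_one_pow ρ hr
  have hU'n : U' ^ (2 * r - 1) = 0 := by rw [hU']; exact cj_sub_one_pow ρ (sub_one_pow_inv ρ hr)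
  have hπU'3 : π * U' ^ 3 = 0 := by
    rw [(hπU'c.pow_right 3).eq]
    refine LinearMap.ext fun A => ?_
    have h := hU'3 (π A) (by simpa [pow_succ] using LinearMap.congr_fun hU3π' A)
    simpa [pow_succ] using h
  have horb : ∀ (q : G ⧸ P) (i : ℕ),
      F ((fun q => x • q)^[i] q) = (1 + U) ^ i * F q * (1 + U') ^ i := by
    intro q i
    simp only [smul_iterate]
    rw [← QuotientGroup.out_eq' q, MulAction.Quotient.smul_coe, smul_eq_mul, hFmk, hFmk,
      mul_inv_rev, map_mul, map_mul, ← hu1, ← hu', hu, ← map_pow, ← map_pow, inv_pow]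
    simp only [mul_assoc]
  have hRmem : ∀ K : AddSubgroup (Module.End (ZMod p) (Module.End (ZMod p) V)),
      (∀ B₀, ∑ i ∈ range p, (1 + U) ^ i * B₀ * (1 + U') ^ i ∈ K) → R ∈ K := by
    intro K hK
    rw [hR]
    refine sum_iterate_mem (fun q : G ⧸ P => x • q) hper F K (fun q _ => ?_) _ hfixinv
      (fun q hq => (mem_filter.1 hq).2)
    rw [sum_congr rfl fun i _ => horb q i]
    exact hK _
  have hUπ : ∀ i : ℕ, Commute π ((1 + U) ^ i) := fun i => ((Commute.one_right π).add_right hπU').pow_right i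
  have hU'π : ∀ i : ℕ, Commute π ((1 + U') ^ i) := fun i => by
    exact ((Commute.one_right π).add_right hπU'c).pow_right i
  have hπR : π * R = 0 := by
    refine hRmem (AddMonoidHom.mulLeft π).ker fun B₀ => ?_
    rw [AddMonoidHom.mem_ker, AddMonoidHom.coe_mulLeft, mul_sum]
    rw [sum_congr rfl fun i _ => by rw [← mul_assoc, ← mul_assoc, (hUπ i).eq, mul_assoc _ π B₀]]
    exact sum_pow_mul_pow (by rw [← mul_assoc, hU3π', zero_mul]) (by rw [hU'n, mul_zero]) (by omega)
  have hRπ : R * π = 0 := by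
    refine hRmem (AddMonoidHom.mulRight π).ker fun B₀ => ?_
    rw [AddMonoidHom.mem_ker, AddMonoidHom.coe_mulRight]
    beta_reduce
    rw [sum_mul]
    rw [sum_congr rfl fun i _ => by rw [mul_assoc, ← (hU'π i).eq, ← mul_assoc, mul_assoc _ B₀ π]]
    exact sum_pow_mul_pow (by rw [hUn, zero_mul]) (by rw [mul_assoc, hπU'3, mul_zero]) (by omega)
  obtain ⟨S, hS⟩ : ∃ S, U * S = R := by
    refine (hRmem (AddMonoidHom.mulLeft U).range fun B₀ => ?_)
    have h0 := sum_pow_mul_pow (p := p) (A := (0 : Module.End (ZMod p) (Module.End (ZMod p) V)))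
      (B := B₀) (C := U') (a := 1) (c := 2 * r - 1) (by simp) (by rw [hU'n, mul_zero]) (by omega)
    refine ⟨∑ i ∈ range p, (∑ j ∈ range i, (1 + U) ^ j) * B₀ * (1 + U') ^ i, ?_⟩
    rw [AddMonoidHom.coe_mulLeft, mul_sum]
    refine Eq.trans ?_ (sub_zero _)
    conv_rhs => arg 2; rw [← h0]
    rw [← sum_sub_distrib]
    refine sum_congr rfl fun i _ => ?_
    rw [add_zero, one_pow, ← mul_assoc, ← mul_assoc, ← sub_mul, ← sub_mul, ← mul_geom_sum,
      add_sub_cancel_left]
  have hRU : Commute R U := by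
    have h1 : R = T - π := by rw [hTπR, add_sub_cancel_left]
    rw [h1]
    refine Commute.sub_left ?_ hπU'
    rw [hU, hu]
    exact Commute.sub_right (hTeq x).symm (Commute.one_right _)
  have hRn : R ^ (2 * r - 1) = 0 := by
    have h1 : ∀ s, ∃ S', R ^ s = U ^ s * S' := by
      intro s
      induction s with
      | zero => exact ⟨1, by simp⟩
      | succ s ih =>
        obtain ⟨S', hS'⟩ := ih
        refine ⟨S' * S, ?_⟩
        rw [pow_succ, show R ^ s * R = R ^ s * (U * S) by rw [hS], ← mul_assoc (R ^ s),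
          (hRU.pow_left s).eq, hS', mul_assoc, mul_assoc, pow_succ', mul_assoc]
    obtain ⟨S', hS'⟩ := h1 (2 * r - 1)
    rw [hS', hUn, zero_mul]
  have hTs : ∀ s, T ^ (s + 1) = π ^ (s + 1) + R ^ (s + 1) := by
    intro s
    induction s with
    | zero => simp [hTπR]
    | succ s ih =>
      rw [pow_succ, ih, hTπR, add_mul, mul_add, mul_add, pow_succ π (s + 1), pow_succ R (s + 1),
        pow_succ π s, mul_assoc _ π R, hπR, pow_succ R s, mul_assoc _ R π, hRπ]
      simp
  obtain ⟨PI, hPI⟩ : ∃ PI, PI = π ^ (2 * r - 1) := ⟨_, rfl⟩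
  have hPIeq : ∀ g : G, cj ρ g * PI = PI * cj ρ g := by
    intro g
    have h1 := hTs (2 * r - 2)
    rw [show 2 * r - 2 + 1 = 2 * r - 1 by omega, hRn, add_zero, ← hPI] at h1
    rw [← h1]
    exact (show Commute (cj ρ g) T from hTeq g).pow_right _
  have hPIU : Commute PI U := hPI ▸ hπU'.pow_left _
  have hU3PI : ∀ A, U (U (U (PI A))) = 0 := fun A => by
    have h1 : U ^ 3 * PI = 0 := by
      rw [hPI, show 2 * r - 1 = 2 * r - 2 + 1 by omega, pow_succ' π, ← mul_assoc, hU3π', zero_mul]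
    have h2 := LinearMap.congr_fun h1 A
    simpa [pow_succ] using h2
  obtain ⟨c, hc⟩ : ∃ c : ZMod p, c = m ^ (2 * r - 1) := ⟨_, rfl⟩
  have hc0 : c ≠ 0 := hc ▸ pow_ne_zero _ hm0
  have hPIL : PI L = c • L := by
    rw [hPI, hc]
    generalize 2 * r - 1 = s
    induction s with
    | zero => simp
    | succ s ih =>
      rw [pow_succ, Module.End.mul_apply, hπL', map_smul, ih, smul_smul, pow_succ, mul_comm]
  obtain ⟨Y', hY'⟩ : ∃ Y', Y' = PI Z := ⟨_, rfl⟩
  have hU2Y : U (U Y') = c • L := by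
    rw [hY', ← Module.End.mul_apply U PI, ← hPIU.eq, Module.End.mul_apply, ← Module.End.mul_apply U PI,
      ← hPIU.eq, Module.End.mul_apply, hZ, hPIL]
  -- the equivariant map onto the line of `L`
  obtain ⟨E, hE⟩ : ∃ E : G → Module.End (ZMod p) V → Module.End (ZMod p) V,
      ∀ g A, E g A = φ (U (U (cj ρ g⁻¹ A))) ^ (e - 1) • cj ρ g L := ⟨_, fun _ _ => rfl⟩
  have hφu : ∀ (i : ℕ) A, φ (U (U ((u ^ i) A))) = φ (U (U A)) := by
    intro i
    induction i with
    | zero => simp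
    | succ i ih =>
      intro A
      rw [pow_succ', Module.End.mul_apply, hu1, LinearMap.add_apply, Module.End.one_apply, map_add,
        map_add, map_add, hφU, add_zero, ← hu1, ih]
  have hEmk : ∀ (g : G) A, E (QuotientGroup.mk g : G ⧸ P).out A = E g A := by
    intro g A
    obtain ⟨y, hy⟩ := QuotientGroup.mk_out_eq_mul P g
    obtain ⟨i, hi⟩ := hPpow (inv_mem y.2)
    obtain ⟨j, hj⟩ := hPpow y.2
    have huL : ∀ j : ℕ, (u ^ j) L = L := by
      intro j
      induction j with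
      | zero => simp
      | succ j ih =>
        rw [pow_succ', Module.End.mul_apply, ih, hu1, LinearMap.add_apply, Module.End.one_apply, hUL,
          add_zero]
    rw [hE, hE, hy, mul_inv_rev, map_mul, map_mul, ← hi, ← hj, map_pow, map_pow, ← hu,
      Module.End.mul_apply, Module.End.mul_apply, hφu, huL]
  obtain ⟨Φ, hΦ⟩ : ∃ Φ : Module.End (ZMod p) V → Module.End (ZMod p) V,
      ∀ A, Φ A = ∑ q : G ⧸ P, E q.out A := ⟨_, fun _ => rfl⟩
  have hΦeq : ∀ g A, Φ (cj ρ g A) = cj ρ g (Φ A) := by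
    intro g A
    rw [hΦ, hΦ, map_sum]
    refine Fintype.sum_equiv (MulAction.toPerm g⁻¹) _ _ fun q => ?_
    conv_rhs => rw [MulAction.toPerm_apply, ← QuotientGroup.out_eq' q, MulAction.Quotient.smul_coe,
      smul_eq_mul, hEmk, hE, mul_inv_rev, inv_inv, map_mul, map_smul, Module.End.mul_apply,
      ← Module.End.mul_apply (cj ρ g), ← map_mul, mul_inv_cancel_left]
    rw [hE]
  obtain ⟨two, htwo⟩ : ∃ two : (ZMod p)[X], two = Polynomial.C (2 : ZMod p)⁻¹ * (X * (X - 1)) :=
    ⟨_, rfl⟩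
  have h2ev : ∀ i : ℕ, two.eval (i : ZMod p) = (i.choose 2 : ZMod p) := by
    intro i
    have h := congrArg (Nat.cast : ℕ → ZMod p) (show i.choose 2 * 2 = i * (i - 1) by
      rw [Nat.choose_two_right, Nat.div_mul_cancel (Nat.even_mul_pred_self i).two_dvd])
    have h2 : (2 : ZMod p) ≠ 0 := fun h2 => by
      have h2' : ((2 : ℕ) : ZMod p) = 0 := by exact_mod_cast h2
      have := Nat.le_of_dvd two_pos ((ZMod.natCast_eq_zero_iff _ _).1 h2')
      omega
    simp only [htwo, eval_mul, eval_C, eval_X, eval_sub, eval_one]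
    rw [inv_mul_eq_iff_eq_mul₀ h2]
    rcases Nat.eq_zero_or_pos i with rfl | hi
    · simp
    · push_cast [Nat.cast_sub hi] at h
      rw [← h, mul_comm]
  have hrest : ∀ A, U (U (U A)) = 0 →
      ∑ q ∈ univ.filter (fun q : G ⧸ P => ¬ x • q = q), E q.out A = 0 := by
    intro A hA
    refine AddSubgroup.mem_bot.1 (sum_iterate_mem (fun q : G ⧸ P => x • q) hper (fun q => E q.out A) ⊥
      (fun q _ => AddSubgroup.mem_bot.2 ?_) _ hfixinv (fun q hq => (mem_filter.1 hq).2))
    obtain ⟨g, hg⟩ : ∃ g, g = q.out := ⟨_, rfl⟩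
    obtain ⟨f, hf⟩ : ∃ f : Module.End (ZMod p) V →ₗ[ZMod p] ZMod p, f = φ ∘ₗ U ∘ₗ U ∘ₗ cj ρ g⁻¹ :=
      ⟨_, rfl⟩
    obtain ⟨W, hW⟩ : ∃ W, W = cj ρ g L := ⟨_, rfl⟩
    have hW3 : U (U (U W)) = 0 := by
      have h1 : W = PI (c⁻¹ • cj ρ g L) := by
        rw [map_smul, ← Module.End.mul_apply, ← hPIeq, Module.End.mul_apply, hPIL, map_smul, smul_smul,
          inv_mul_cancel₀ hc0, one_smul, hW]
      rw [h1]; exact hU3PI _
    have hA' : U' (U' (U' A)) = 0 := hU'3 A hA
    have hterm : ∀ i : ℕ, E ((fun q => x • q)^[i] q).out A =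
        (f (((((1 : Module.End (ZMod p) (Module.End (ZMod p) V)) + U') ^ i)) A)) ^ (e - 1) •
          ((1 + U) ^ i) W := by
      intro i
      simp only [smul_iterate]
      rw [← QuotientGroup.out_eq' q, MulAction.Quotient.smul_coe, smul_eq_mul, hEmk,
        ← hg, hE, mul_inv_rev, map_mul, map_mul, hf, hW, ← hu1, ← hu', hu, ← map_pow (cj ρ), ← map_pow (cj ρ),
        ← inv_pow]
      rfl
    rw [sum_congr rfl fun i _ => hterm i]
    obtain ⟨a0, a1, a2, ha⟩ : ∃ a0 a1 a2 : ZMod p, ∀ i : ℕ,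
        f (((((1 : Module.End (ZMod p) (Module.End (ZMod p) V)) + U') ^ i)) A) =
          a0 + a1 * i + a2 * (i.choose 2 : ZMod p) :=
      ⟨f A, f (U' A), f (U' (U' A)), fun i => by
        rw [one_add_pow_apply U' hA' i, map_add, map_add, map_smul, map_smul,
          smul_eq_mul, smul_eq_mul, mul_comm (i : ZMod p), mul_comm (i.choose 2 : ZMod p)]⟩
    obtain ⟨q₂, hq₂⟩ : ∃ q₂ : (ZMod p)[X],
        q₂ = Polynomial.C a0 + Polynomial.C a1 * X + Polynomial.C a2 * two := ⟨_, rfl⟩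
    have hev : ∀ i : ℕ, q₂.eval (i : ZMod p) = a0 + a1 * i + a2 * (i.choose 2 : ZMod p) := fun i => by
      simp [hq₂, h2ev]
    have htwo_deg : two.natDegree ≤ 2 := by
      rw [htwo]
      compute_degree
    have hdeg : q₂.natDegree ≤ 2 := by
      rw [hq₂]
      refine (natDegree_add_le _ _).trans (max_le ((natDegree_add_le _ _).trans (max_le ?_ ?_)) ?_)
      · simp
      · exact (natDegree_C_mul_le _ _).trans (by simp)
      · exact (natDegree_C_mul_le _ _).trans htwo_deg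
    have hpow : (q₂ ^ (e - 1)).natDegree ≤ 2 * (e - 1) :=
      natDegree_pow_le.trans (by rw [mul_comm]; exact Nat.mul_le_mul_right _ hdeg)
    have hsum : ∀ Q' : (ZMod p)[X], Q'.natDegree ≤ 2 →
        ∑ i ∈ range p, q₂.eval (i : ZMod p) ^ (e - 1) * Q'.eval (i : ZMod p) = 0 := by
      intro Q' hQ'
      have h1 := sum_eval_eq_zero (q₂ ^ (e - 1) * Q')
        (lt_of_le_of_lt (natDegree_mul_le.trans (Nat.add_le_add hpow hQ')) (by omega))
      simpa using h1
    simp only [one_add_pow_apply U hW3, ha, ← hev, smul_add, smul_smul, sum_add_distrib, ← sum_smul]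
    have s0 := hsum 1 (by simp)
    have s1 := hsum X (by simp)
    have s2 := hsum two htwo_deg
    simp only [eval_one, mul_one] at s0
    simp only [eval_X] at s1
    simp only [h2ev] at s2
    simp [s0, s1, s2]
  have hsplit : ∀ A, U (U (U A)) = 0 → Φ A = ∑ q ∈ Fix, E q.out A := fun A hA => by
    rw [hΦ, ← sum_filter_add_sum_filter_not univ (fun q : G ⧸ P => x • q = q), hrest A hA, add_zero,
      hFix]
  have hEfix : ∀ q ∈ Fix, ∀ A, ∃ t : ZMod p, E q.out A = t • L := fun q hq A => by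
    rw [hFix, mem_filter] at hq
    obtain ⟨a, ha0, ha, -⟩ := hfixed q hq.2
    exact ⟨_, by rw [hE, hLdef, cj_logX_eq ρ hx ha0 ha, smul_smul]⟩
  obtain ⟨t, ht⟩ : ∃ t : ZMod p, Φ (cj ρ h Y') = t • L := by
    choose! t ht using fun q hq => hEfix q hq (cj ρ h Y')
    refine ⟨∑ q ∈ Fix, t q, ?_⟩
    rw [hsplit _ ?_, sum_congr rfl ht, sum_smul]
    rw [hY', ← Module.End.mul_apply (cj ρ h) PI, hPIeq, Module.End.mul_apply]
    exact hU3PI _
  have hΦY : Φ Y' = (m * c ^ (e - 1)) • L := by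
    rw [hsplit _ (hY' ▸ hU3PI Z)]
    have hq : ∀ q ∈ Fix, E q.out Y' = c ^ (e - 1) • L := fun q hq => by
      rw [hFix, mem_filter] at hq
      obtain ⟨a, ha0, ha, -⟩ := hfixed q hq.2
      obtain ⟨g, hg⟩ : ∃ g, g = q.out := ⟨_, rfl⟩
      rw [← hg] at ha ⊢
      obtain ⟨S', hS'⟩ : ∃ S', S' = ∑ i ∈ range a.val, u ^ i := ⟨_, rfl⟩
      have h1 : U * cj ρ g⁻¹ = cj ρ g⁻¹ * (U * S') := by
        rw [hS', ← hgeom, ← ha, map_mul, map_mul, mul_sub, mul_one, ← mul_assoc, ← mul_assoc,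
          cj_inv_mul, one_mul, ← hu, hU, sub_mul, one_mul]
      have hUS : Commute U S' := by
        rw [hS', hu1]
        exact Commute.sum_right _ _ _ fun i _ => ((Commute.one_right U).add_right (Commute.refl U)).pow_right i
      have hSL : S' L = a • L := by
        have huL : ∀ j : ℕ, (u ^ j) L = L := by
          intro j
          induction j with
          | zero => simp
          | succ j ih =>
            rw [pow_succ', Module.End.mul_apply, ih, hu1, LinearMap.add_apply, Module.End.one_apply,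
              hUL, add_zero]
        rw [hS', LinearMap.sum_apply, sum_congr rfl fun i _ => huL i, sum_const, card_range,
          ← Nat.cast_smul_eq_nsmul (ZMod p), ZMod.natCast_zmod_val]
      have h4 : cj ρ g⁻¹ L = a⁻¹ • L := by
        rw [eq_inv_smul_iff₀ ha0, ← map_smul, hLdef, ← cj_logX_eq ρ hx ha0 ha,
          ← Module.End.mul_apply, cj_inv_mul, Module.End.one_apply]
      have h2 : U ^ 2 * cj ρ g⁻¹ = cj ρ g⁻¹ * (S' ^ 2 * U ^ 2) := by
        rw [← (hUS.pow_pow 2 2).eq, ← hUS.mul_pow]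
        exact ((show SemiconjBy (cj ρ g⁻¹) (U * S') U from h1.symm).pow_right 2).eq.symm
      have h3 : U (U (cj ρ g⁻¹ Y')) = (c * a) • L := by
        have h' := LinearMap.congr_fun h2 Y'
        simp only [pow_two, Module.End.mul_apply, hU2Y, map_smul, hSL, h4, smul_smul] at h'
        rw [h']
        congr 1
        rw [mul_assoc, mul_assoc, mul_inv_cancel₀ ha0, mul_one]
      rw [hE, h3, map_smul, hφX, smul_eq_mul, mul_one, hLdef, cj_logX_eq ρ hx ha0 ha, smul_smul,
        mul_pow, mul_assoc, ← pow_succ, Nat.sub_add_cancel he0, he a ⟨g, ha⟩, mul_one]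
    rw [sum_congr rfl hq, sum_const, ← Nat.cast_smul_eq_nsmul (ZMod p), smul_smul, hm]
  have hCL : cj ρ h L = ((m * c ^ (e - 1))⁻¹ * t) • L := by
    rw [← smul_smul, eq_inv_smul_iff₀ (mul_ne_zero hm0 (pow_ne_zero _ hc0)), ← map_smul, ← hΦY,
      ← hΦeq, ht]
  have hs0 : (m * c ^ (e - 1))⁻¹ * t ≠ 0 := by
    intro h0
    rw [h0, zero_smul] at hCL
    have h5 := congrArg (cj ρ h⁻¹) hCL
    rw [← Module.End.mul_apply, cj_inv_mul, Module.End.one_apply, map_zero] at h5
    rw [h5, map_zero] at hφX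
    exact zero_ne_one hφX
  refine commute_of_commute_logX ρ hp3 hr ?_
  have h6 : Commute (ρ (h * x * h⁻¹)) (cj ρ h L) := by
    rw [cj_apply, map_mul, map_mul, hLdef]
    have hc := (commute_logX ρ x).eq
    have hi : ρ h⁻¹ * ρ h = 1 := by rw [← map_mul, inv_mul_cancel, map_one]
    show _ = _
    calc ρ h * ρ x * ρ h⁻¹ * (ρ h * logX ρ x * ρ h⁻¹)
        = ρ h * ρ x * (ρ h⁻¹ * ρ h) * logX ρ x * ρ h⁻¹ := by simp only [mul_assoc]
      _ = ρ h * (ρ x * logX ρ x) * ρ h⁻¹ := by rw [hi, mul_one, mul_assoc (ρ h)]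
      _ = ρ h * logX ρ x * (ρ h⁻¹ * ρ h) * ρ x * ρ h⁻¹ := by
        rw [hc, hi, mul_one]; simp only [mul_assoc]
      _ = _ := by simp only [mul_assoc]
  rw [hCL] at h6
  have h7 := h6.smul_right ((m * c ^ (e - 1))⁻¹ * t)⁻¹
  rw [smul_smul, inv_mul_cancel₀ hs0, one_smul, hLdef] at h7
  exact h7

end Main

end CfsgLib.SmallDegree
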