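import Cfsg.Prelude.Def_Blocks
import Cfsg.Agent.SmallSimple.ColumnData
import Cfsg.Agent.SmallDegree.CommutingConjugates
import Cfsg.Agent.SmallDegree.ModReduction

/-!
# A faithful character of degree `n` and a prime dividing the order once: `p ≤ 2 n + 1`
-/

set_option autoImplicit false
set_option linter.unusedSectionVars false
set_option linter.style.haveILetI false

namespace CfsgLib.SmallDegree

open Finset CfsgLib.Char CfsgLib.ColumnData

variable {G : Type*} [Group G] [Finite G] {p : ℕ} [hp : Fact p.Prime]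

/-- The exponent bound for the automizer of a subgroup of order `p`. -/
theorem exists_automizer_bound {x : G} (hx : orderOf x = p) {χ : G → ℂ}
    (hχ : Cfsg.IsCharacter G χ) (hne : χ x ≠ χ 1) {n : ℕ} (hn : χ 1 = n) :
    ∃ e : ℕ, 0 < e ∧ e ≤ n ∧
      ∀ a : ZMod p, (∃ g : G, g * x * g⁻¹ = x ^ a.val) → a ^ e = 1 := by
  classical
  have hx1 : x ≠ 1 := fun h => hne (by rw [h])
  obtain ⟨A, hA⟩ : ∃ A : Submonoid (ZMod p)ˣ,
      ∀ a, a ∈ A ↔ ∃ g : G, g * x * g⁻¹ = x ^ (a : ZMod p).val := by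
    refine ⟨{ carrier := {a | ∃ g : G, g * x * g⁻¹ = x ^ (a : ZMod p).val}, mul_mem' := ?_,
              one_mem' := ⟨1, ?_⟩ }, fun a => Iff.rfl⟩
    · rintro a b ⟨g, hg⟩ ⟨g', hg'⟩
      refine ⟨g * g', ?_⟩
      rw [Units.val_mul, pow_val_mul hx, ← hg, conj_pow, ← hg']
      group
    · rw [Units.val_one, ZMod.val_one, pow_one, one_mul, inv_one, mul_one]
  obtain ⟨c, hc⟩ := exists_count hx hχ
  have hinv : ∀ a ∈ A, ∀ k : ZMod p, c ((a : ZMod p) * k) = c k := by
    intro a ha
    obtain ⟨g, hg⟩ := (hA a).1 ha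
    refine count_pow hx hc hc a.ne_zero fun j => ?_
    rw [pow_val_mul hx, ← hg, conj_pow, IsCharacter.isClassFunction hχ]
  obtain ⟨b, hb, hcb⟩ : ∃ b : ZMod p, b ≠ 0 ∧ c b ≠ 0 := by
    by_contra hall
    push Not at hall
    refine hne ?_
    have h := hc 1
    rw [ZMod.val_one, pow_one] at h
    rw [h, sum_count hx hc, Nat.cast_sum]
    refine sum_congr rfl fun k _ => ?_
    by_cases hk : k = 0
    · rw [hk, zero_mul, AddChar.map_zero_eq_one, mul_one]
    · rw [hall k hk, Nat.cast_zero, zero_mul]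
  haveI : Fintype A := Fintype.ofFinite A
  refine ⟨Fintype.card A, Fintype.card_pos, ?_, ?_⟩
  · have h1 : ((Finset.univ : Finset A).image fun a : A => ((a : (ZMod p)ˣ) : ZMod p) * b).card =
        Fintype.card A := by
      rw [card_image_of_injective _ fun u v huv => Subtype.ext (Units.ext (mul_right_cancel₀ hb huv)),
        card_univ]
    have h2 : ∑ k, c k = n := by
      have := sum_count hx hc
      rw [hn, Nat.cast_inj] at this
      exact this.symm
    rw [← h1, ← h2]
    refine le_trans (card_eq_sum_ones _).le ((sum_le_sum fun k hk => ?_).trans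
      (sum_le_sum_of_subset (Finset.subset_univ _)))
    obtain ⟨a, -, rfl⟩ := Finset.mem_image.1 hk
    rw [hinv a a.2]
    omega
  · rintro a ⟨g, hg⟩
    have ha : a ≠ 0 := fun h0 => hx1 (by
      rw [h0, ZMod.val_zero, pow_zero] at hg
      simpa using hg)
    have hu : Units.mk0 a ha ∈ A := (hA _).2 ⟨g, hg⟩
    let H : Subgroup (ZMod p)ˣ :=
      { A with
        inv_mem' := fun {v} hv => by
          obtain ⟨m, hm⟩ := mem_powers_iff_mem_zpowers.2 (inv_mem (Subgroup.mem_zpowers v))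
          exact hm ▸ pow_mem (show v ∈ A from hv) m }
    have h4 : (⟨Units.mk0 a ha, hu⟩ : H) ^ Nat.card H = 1 := pow_card_eq_one'
    have h5 := congrArg (fun w : H => ((w : (ZMod p)ˣ) : ZMod p)) h4
    have h6 : Nat.card H = Fintype.card A := (Nat.card_congr (Equiv.refl A)).trans Nat.card_eq_fintype_card
    rw [h6] at h5
    simpa only [SubmonoidClass.coe_pow, Units.val_pow_eq_pow_val, Units.val_mk0, OneMemClass.coe_one,
      Units.val_one] using h5

theorem le_two_mul_add_one (hdiv : p ∣ Nat.card G) (hsq : ¬ p ^ 2 ∣ Nat.card G)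
    (hnn : ∀ H : Subgroup G, H.Normal → Nat.card H ≠ p) {χ : G → ℂ} (hχ : Cfsg.IsCharacter G χ)
    (hfaith : ∀ g : G, χ g = χ 1 → g = 1) {n : ℕ} (hn : χ 1 = n) : p ≤ 2 * n + 1 := by
  classical
  by_contra hlt
  push Not at hlt
  obtain ⟨x, hx⟩ := exists_prime_orderOf_dvd_card' p hdiv
  have hx1 : x ≠ 1 := fun h => by rw [h, orderOf_one] at hx; exact hp.out.one_lt.ne hx
  obtain ⟨n', σ, hσ⟩ := id hχ
  have hn' : n' = n := by
    have h := hn
    rw [← hσ, σ.char_one, Module.finrank_fin_fun, Nat.cast_inj] at h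
    exact h
  subst hn'
  have hinj : Function.Injective σ := by
    refine (injective_iff_map_eq_one _).2 fun g hg => hfaith g ?_
    rw [← hσ, Representation.character, Representation.character, hg, map_one σ]
  obtain ⟨e, he0, hen, he⟩ := exists_automizer_bound hx hχ (fun h => hx1 (hfaith x h)) hn
  obtain ⟨V, _, _, _, ρ, hr, hker⟩ := exists_reduction (by omega) σ hinj hx
  have hker1 : ρ.ker = ⊥ := by
    obtain ⟨m, hm⟩ := hker.exists_card_eq
    have hm1 : m ≤ 1 := by
      by_contra h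
      exact hsq ((pow_dvd_pow p (by omega : 2 ≤ m)).trans (hm ▸ ρ.ker.card_subgroup_dvd_card))
    interval_cases m
    · exact Subgroup.eq_bot_of_card_eq _ (by rw [hm, pow_zero])
    · exact absurd (by rw [hm, pow_one]) (hnn ρ.ker inferInstance)
  have hρinj : Function.Injective ρ := (MonoidHom.ker_eq_bot_iff ρ).1 hker1
  have hcomm : ∀ h : G, Commute (h * x * h⁻¹) x := fun h => hρinj (by
    rw [map_mul ρ (h * x * h⁻¹) x, map_mul ρ x (h * x * h⁻¹)]
    exact (commute_conj ρ hx hsq hr (by omega) he0 (by omega) he h).eq)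
  obtain ⟨P, hP⟩ : ∃ P, Subgroup.zpowers x = P := ⟨_, rfl⟩
  have hPc : Nat.card P = p := by rw [← hP, Nat.card_zpowers, hx]
  have hPp : IsPGroup p P := IsPGroup.of_card (n := 1) (by rw [hPc, pow_one])
  refine hnn P ⟨fun y hy h => ?_⟩ hPc
  rw [← hP, Subgroup.mem_zpowers_iff] at hy
  obtain ⟨k, rfl⟩ := hy
  rw [← conj_zpow]
  refine Subgroup.zpow_mem _ ?_ k
  by_contra hmem
  obtain ⟨Y, hY⟩ : ∃ Y, Subgroup.zpowers (h * x * h⁻¹) = Y := ⟨_, rfl⟩
  have hYc : Nat.card Y = p := by
    rw [← hY, Nat.card_zpowers, ← hx]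
    exact orderOf_injective (MulAut.conj h).toMonoidHom (MulEquiv.injective _) x
  have hYp : IsPGroup p Y := IsPGroup.of_card (n := 1) (by rw [hYc, pow_one])
  have hle : Y ≤ Subgroup.normalizer (P : Set G) := by
    rw [← hY, Subgroup.zpowers_le, ← hP]
    refine Subgroup.mem_normalizer_iff.2 fun w => ?_
    have hc : ∀ w ∈ Subgroup.zpowers x, h * x * h⁻¹ * w * (h * x * h⁻¹)⁻¹ = w := fun w hw => by
      obtain ⟨j, rfl⟩ := Subgroup.mem_zpowers_iff.1 hw
      rw [((hcomm h).zpow_right j).eq, mul_inv_cancel_right]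
    refine ⟨fun hw => by rw [hc w hw]; exact hw, fun hw => ?_⟩
    have h2 := hc _ hw
    have h3 : h * x * h⁻¹ * w * (h * x * h⁻¹)⁻¹ = w :=
      mul_left_cancel (mul_right_cancel h2)
    rwa [h3] at hw
  obtain ⟨m, hm⟩ := (hPp.to_sup_of_normal_left' hYp hle).exists_card_eq
  have hm1 : m ≤ 1 := by
    by_contra h'
    exact hsq ((pow_dvd_pow p (by omega : 2 ≤ m)).trans (hm ▸ Subgroup.card_subgroup_dvd_card _))
  have heq : P = P ⊔ Y := Subgroup.eq_of_le_of_card_ge le_sup_left (by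
    rw [hm, hPc]
    exact (pow_le_pow_right₀ hp.out.one_le hm1).trans_eq (pow_one p))
  exact hmem (heq ▸ le_sup_right (a := P) (hY ▸ Subgroup.mem_zpowers _))

end CfsgLib.SmallDegree
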