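import Cfsg.Agent.SolvableDivisor.Twist
import Cfsg.Prelude.Def_Solvable
import Cfsg.Agent.Char.RestrictInd
import Mathlib.GroupTheory.Nilpotent

/-!
# Broline's theorem: characters of larger degree with smaller kernel
-/

set_option autoImplicit false
set_option linter.unusedSectionVars false
set_option linter.style.haveILetI false

namespace CfsgLib.LargerDegree

open Subgroup CfsgLib.Char
open scoped ComplexConjugate

universe u

variable {G : Type u} [Group G] [Finite G]

/-- A character restricts irreducibly to a subgroup covering the kernel quotient. -/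
theorem irr_restrict {χ : G → ℂ} (hχ : Cfsg.IsIrrCharacter G χ) {N M : Subgroup G} [N.Normal]
    (hN : ∀ y ∈ N, χ y = χ 1) (hNM : N ⊔ M = ⊤) :
    Cfsg.IsIrrCharacter M (fun y : M => χ y) ∧ ∀ g, ∃ y ∈ M, χ g = χ y ∧ ∃ k ∈ N, g = k * y := by
  obtain ⟨n, ρ, hρ, rfl⟩ := hχ
  have hsplit : ∀ g : G, ∃ k ∈ N, ∃ y ∈ M, k * y = g := fun g => by
    have : g ∈ ((N ⊔ M : Subgroup G) : Set G) := by rw [hNM]; exact mem_top g
    rw [normal_mul] at this
    exact Set.mem_mul.1 this
  have hk1 : ∀ k ∈ N, ρ k = 1 := fun k hk =>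
    apply_eq_one_of_character_eq ρ (by rw [hN k hk, ρ.char_one])
  refine ⟨⟨n, ρ.comp M.subtype, ?_, rfl⟩, fun g => ?_⟩
  · let e : Subrepresentation (ρ.comp M.subtype : Representation ℂ M (Fin n → ℂ)) ≃o Subrepresentation ρ :=
      { toFun := fun S => ⟨S.toSubmodule, fun g x hx => by
          obtain ⟨k, hk, y, hy, rfl⟩ := hsplit g
          rw [map_mul, hk1 k hk, one_mul]
          exact S.apply_mem_toSubmodule ⟨y, hy⟩ hx⟩
        invFun := fun S => ⟨S.toSubmodule, fun g x hx => S.apply_mem_toSubmodule (g : G) hx⟩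
        left_inv := fun _ => rfl
        right_inv := fun _ => rfl
        map_rel_iff' := Iff.rfl }
    exact e.isSimpleOrder_iff.2 hρ
  · obtain ⟨k, hk, y, hy, rfl⟩ := hsplit g
    exact ⟨y, hy, IsCharacter.apply_mul_of_apply_eq (isCharacter_character ρ) (hN k hk) y, k, hk, rfl⟩

/-- There is no irreducible character of larger degree with smaller kernel. -/
def NoLarger (χ : G → ℂ) (K : Subgroup G) : Prop :=
  ∀ ψ : G → ℂ, Cfsg.IsIrrCharacter G ψ → (χ 1).re < (ψ 1).re → ∀ L : Subgroup G,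
    (∀ g, g ∈ L ↔ ψ g = ψ 1) → ¬ L < K

/-- Without a larger character, `χ` vanishes on a complementing subgroup outside its core. -/
theorem vanish [Fintype G] {χ : G → ℂ} (hχ : Cfsg.IsIrrCharacter G χ) {K : Subgroup G} [K.Normal]
    (hK : ∀ g, g ∈ K ↔ χ g = χ 1) (hno : NoLarger χ K) {M : Subgroup G} (hM : IsCoatom M)
    (hKM : K ⊔ M = ⊤) : (∀ y ∈ M, χ y ≠ 0 → y ∈ M.normalCore) ∧ K ⊓ M ≤ M.normalCore := by
  classical
  haveI := Fintype.ofFinite M
  obtain ⟨hθ, -⟩ := irr_restrict hχ (fun y hy => (hK y).1 hy) hKM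
  have hKnM : ¬ K ≤ M := fun h => hM.1 (by rw [← hKM, sup_eq_right.2 h])
  have hθ1 : (fun y : M => χ y) 1 = χ 1 := rfl
  -- the degree of a constituent
  have hdeg : ∀ ψ, Cfsg.IsIrrCharacter G ψ →
      Cfsg.classInner (Cfsg.indFun M (fun y : M => χ y)) ψ ≠ 0 →
      (fun y : M => ψ y) = fun y : M => χ y := by
    intro ψ hψ hc
    have hc' : Cfsg.classInner (fun y : M => ψ y) (fun y : M => χ y) ≠ 0 :=
      (classInner_indFun_ne_zero_iff (IsIrrCharacter.isClassFunction hψ) _).1 hc
    have hres := IsCharacter.restrict (IsIrrCharacter.isCharacter hψ) M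
    have hle := IsCharacter.re_constituent_le hres hθ hc'
    simp only [OneMemClass.coe_one] at hle
    rcases lt_or_eq_of_le hle with hlt | heq
    swap
    · obtain ⟨a, -, ha⟩ := IsIrrCharacter.exists_degree hχ
      obtain ⟨b, -, hb⟩ := IsIrrCharacter.exists_degree hψ
      rw [ha, hb, Complex.natCast_re, Complex.natCast_re] at heq
      refine IsCharacter.eq_of_constituent hres hθ hc' ?_
      show ψ 1 = χ 1
      rw [ha, hb]
      exact_mod_cast heq.symm
    exfalso
    obtain ⟨L, hL⟩ : ∃ L : Subgroup G, ∀ g, g ∈ L ↔ ψ g = ψ 1 :=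
      ⟨kerSubgroup (IsIrrCharacter.isCharacter hψ), fun g => Iff.rfl⟩
    haveI : L.Normal := ⟨fun a ha g => (hL _).2 (by
      rw [IsIrrCharacter.isClassFunction hψ a g]; exact (hL a).1 ha)⟩
    have hLM : L ≤ M := by
      by_contra hn
      have htop : L ⊔ M = ⊤ := hM.2 _ (lt_of_le_of_ne le_sup_right fun h => hn (h.symm ▸ le_sup_left))
      obtain ⟨hψirr, -⟩ := irr_restrict hψ (fun y hy => (hL y).1 hy) htop
      have heq : (fun y : M => ψ y) = fun y : M => χ y := by
        by_contra hne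
        exact hc' (IsIrrCharacter.classInner_of_ne hψirr hθ hne)
      have := congrFun heq 1
      simp only [OneMemClass.coe_one] at this
      rw [this] at hlt
      exact lt_irrefl _ hlt
    have hφ := IsCharacter.sub_irr hres hθ hc'
    have hLK : L ≤ K := by
      intro l hl
      rw [hK]
      have h1 := IsCharacter.norm_apply_le hφ ⟨l, hLM hl⟩
      have h2 := IsCharacter.norm_apply_le (IsIrrCharacter.isCharacter hχ) l
      simp only [Pi.sub_apply, OneMemClass.coe_one, (hL l).1 hl] at h1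
      have h3 := (Complex.re_le_norm _).trans h1
      have h4 := (Complex.re_le_norm _).trans h2
      simp only [Complex.sub_re] at h3
      have hre : (χ l).re = (χ 1).re := le_antisymm h4 (by linarith)
      obtain ⟨a, -, ha⟩ := IsIrrCharacter.exists_degree hχ
      have him : (χ l).im = 0 := by
        have h5 := Complex.sq_norm (χ l)
        rw [Complex.normSq_apply, hre] at h5
        nlinarith [norm_nonneg (χ l)]
      exact Complex.ext hre (by rw [him, ha, Complex.natCast_im])
    refine hno ψ hψ hlt L hL (lt_of_le_of_ne hLK fun h => hKnM (h ▸ hLM))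
  -- the induced character on `M`
  obtain ⟨d, hd0, hd⟩ := IsIrrCharacter.exists_degree hχ
  have hd' : (χ 1 : ℂ) ≠ 0 := IsIrrCharacter.apply_one_ne_zero hχ
  have hcore : ∀ y ∈ M, χ y ≠ 0 → y ∈ M.normalCore := by
    intro y hy hne
    have hind := IsCharacter.indFun (G := G) (IsIrrCharacter.isCharacter hθ)
    obtain ⟨f, hf⟩ : ∃ f, f = Cfsg.classInner (Cfsg.indFun M (fun y : M => χ y)) := ⟨_, rfl⟩
    have hexp := eq_sum_irr (IsCharacter.isClassFunction hind)
    rw [← hf] at hexp
    have hval : ∀ z ∈ M, Cfsg.indFun M (fun y : M => χ y) z = (∑ ψ ∈ irrFinset G, f ψ) * χ z := by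
      intro z hz
      conv_lhs => rw [hexp]
      rw [Finset.sum_apply, Finset.sum_mul]
      refine Finset.sum_congr rfl fun ψ hψ => ?_
      rw [Pi.smul_apply, smul_eq_mul]
      by_cases h0 : f ψ = 0
      · rw [h0, zero_mul, zero_mul]
      · rw [show ψ z = χ z from congrFun (hdeg ψ (mem_irrFinset.1 hψ) (hf ▸ h0)) ⟨z, hz⟩]
    have h1 := hval 1 M.one_mem
    rw [indFun_one] at h1
    simp only [OneMemClass.coe_one] at h1
    have hsum : (∑ ψ ∈ irrFinset G, f ψ) = (M.index : ℂ) := (mul_right_cancel₀ hd' h1).symm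
    have h2 := hval y hy
    rw [hsum, indFun_def] at h2
    have h3 : ∀ x : G, Cfsg.extendByZero M (fun y : M => χ y) (x⁻¹ * y * x) =
        if x⁻¹ * y * x ∈ M then χ y else 0 := by
      intro x
      split_ifs with h
      · rw [extendByZero_of_mem _ h]
        have := IsIrrCharacter.isClassFunction hχ y x⁻¹
        simpa using this
      · rw [extendByZero_of_not_mem _ h]
    rw [Finset.sum_congr rfl fun x _ => h3 x, ← Finset.sum_filter, Finset.sum_const, nsmul_eq_mul,
      ← mul_assoc] at h2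
    have h4 := mul_right_cancel₀ hne h2
    rw [inv_mul_eq_iff_eq_mul₀ (by exact_mod_cast Nat.card_pos.ne'), ← Nat.cast_mul,
      M.card_mul_index, Nat.cast_inj, Nat.card_eq_fintype_card, ← Finset.card_univ] at h4
    have h5 := Finset.eq_univ_of_card _ (h4.trans (Finset.card_univ))
    intro x
    have h6 : x⁻¹ ∈ Finset.univ.filter fun x : G => x⁻¹ * y * x ∈ M := by
      rw [h5]; exact Finset.mem_univ _
    simpa using (Finset.mem_filter.1 h6).2
  exact ⟨hcore, fun y hy => hcore y hy.2 (by rw [(hK y).1 hy.1]; exact hd')⟩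

/-- A subgroup with a non-normal Sylow subgroup supplements. -/
theorem exists_supplement {X : Subgroup G} [X.Normal] {s : ℕ} [Fact s.Prime] (S : Sylow s X)
    (hS : ¬ (S : Subgroup X).Normal) :
    ∃ M : Subgroup G, IsCoatom M ∧ (S : Subgroup X).map X.subtype ≤ M ∧ X ⊔ M = ⊤ ∧
      ∀ D : Subgroup G, D.Normal → D ≤ X → D ≤ M → ¬ (S : Subgroup X).map X.subtype ≤ D := by
  obtain ⟨S', hS'⟩ : ∃ S', (S : Subgroup X).map X.subtype = S' := ⟨_, rfl⟩
  have hne : normalizer (S' : Set G) ≠ ⊤ := fun h => hS (by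
    have hn : S'.Normal := normalizer_eq_top_iff.1 h
    have h2 := hn.comap X.subtype
    rwa [← hS', comap_map_eq_self_of_injective X.subtype_injective] at h2)
  obtain ⟨M, hM, hNM⟩ := (eq_top_or_exists_le_coatom (normalizer (S' : Set G))).resolve_left hne
  have hX : normalizer (S' : Set G) ⊔ X = ⊤ := hS' ▸ Sylow.normalizer_sup_eq_top S
  refine ⟨M, hM, hS'.symm ▸ le_normalizer.trans hNM, top_le_iff.1 (hX ▸ sup_le (hNM.trans le_sup_right) le_sup_left), ?_⟩
  intro D hD hDX hDM hSD
  haveI := hD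
  rw [hS'] at hSD
  obtain ⟨T, hT⟩ : ∃ T : Sylow s D, (T : Subgroup D).map D.subtype = S' := by
    have hp : IsPGroup s (S'.subgroupOf D) := (hS' ▸ S.isPGroup'.map X.subtype).comap_subtype
    have hi : ¬ s ∣ (S'.subgroupOf D).index := by
      intro h
      apply S.not_dvd_index
      have h1 : (S : Subgroup X).index = S'.relIndex X := by
        rw [relIndex, ← hS', subgroupOf, comap_map_eq_self_of_injective X.subtype_injective]
      rw [h1, ← relIndex_mul_relIndex S' D X hSD hDX]
      exact dvd_mul_of_dvd_left h _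
    exact ⟨hp.toSylow hi, by rw [IsPGroup.toSylow_coe, map_subgroupOf_eq_of_le hSD]⟩
  have h := Sylow.normalizer_sup_eq_top T
  rw [hT] at h
  exact hM.1 (top_le_iff.1 (h ▸ sup_le hNM hDM))

theorem exists_nonnormal_sylow {X : Subgroup G} (h : ¬ Group.IsNilpotent X) :
    ∃ (s : ℕ) (_ : Fact s.Prime) (S : Sylow s X), ¬ (S : Subgroup X).Normal := by
  by_contra hcon
  push Not at hcon
  exact h ((Group.isNilpotent_of_finite_tfae (G := X)).out 3 0 |>.1 fun p hp S => hcon p hp S)

theorem le_fitting {N : Subgroup G} [hN : N.Normal] (h : Group.IsNilpotent N) :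
    N ≤ Cfsg.fittingSubgroup G := le_sSup ⟨hN, h⟩

/-- Broline. -/
theorem main [Fintype G] {χ : G → ℂ} (hχ : Cfsg.IsIrrCharacter G χ) {K : Subgroup G} [K.Normal]
    (hK : ∀ g, g ∈ K ↔ χ g = χ 1)
    (h : ¬ K ≤ Cfsg.fittingSubgroup G ∨
      (K = Cfsg.fittingSubgroup G ∧ Group.IsSolvable (G ⧸ K) ∧ K ≠ ⊤ ∧ Group.IsNilpotent K)) :
    ¬ NoLarger χ K := by
  classical
  intro hno
  rcases h with h | ⟨hKF, hsol, hKt, hKnil⟩
  · obtain ⟨s, _, S, hS⟩ := exists_nonnormal_sylow fun hn => h (le_fitting hn)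
    obtain ⟨M, hM, hSM, hKM, hD⟩ := exists_supplement S hS
    obtain ⟨-, hcore⟩ := vanish hχ hK hno hM hKM
    refine hD (K ⊓ M.normalCore) inferInstance inf_le_left (inf_le_right.trans (normalCore_le M)) ?_
    refine le_inf ?_ (le_trans (le_inf ?_ hSM) hcore)
    · exact map_subtype_le _
    · exact map_subtype_le _
  haveI := hKnil
  haveI : Group.IsSolvable K := inferInstance
  haveI := hsol
  haveI : Group.IsSolvable G := (Group.isSolvable_iff_subgroup_quotient K).2 ⟨inferInstance, hsol⟩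
  obtain ⟨I, hI⟩ : ∃ I : Subgroup G, ∀ g, g ∈ I ↔
      ∀ M : Subgroup G, IsCoatom M → K ⊔ M = ⊤ → g ∈ M.normalCore ⊔ K :=
    ⟨⨅ (M : Subgroup G) (_ : IsCoatom M) (_ : K ⊔ M = ⊤), M.normalCore ⊔ K, fun g => by
      simp only [mem_iInf]⟩
  have hIn : I.Normal := ⟨fun a ha g => (hI _).2 fun M hM hKM =>
    (sup_normal M.normalCore K).conj_mem a ((hI a).1 ha M hM hKM) g⟩
  have hKI : K ≤ I := fun a ha => (hI a).2 fun M _ _ => mem_sup_right ha
  have hsupp : ∀ g, χ g ≠ 0 → g ∈ I := fun g hg => (hI g).2 fun M hM hKM => by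
    obtain ⟨-, hsplit⟩ := irr_restrict hχ (fun y hy => (hK y).1 hy) hKM
    obtain ⟨y, hy, hgy, k, hk, rfl⟩ := hsplit g
    exact mul_mem (mem_sup_right hk) (mem_sup_left ((vanish hχ hK hno hM hKM).1 y hy (hgy ▸ hg)))
  have hIK : I = K := by
    by_contra hne
    obtain ⟨F, ⟨hFn, hKF', hFI⟩, hmin⟩ := Set.exists_min_image
      {F : Subgroup G | F.Normal ∧ K < F ∧ F ≤ I} (fun F => Nat.card F) (Set.toFinite _)
      ⟨I, hIn, lt_of_le_of_ne hKI (Ne.symm hne), le_rfl⟩
    haveI := hFn
    have hminF : ∀ B : Subgroup G, B.Normal → K ≤ B → B ≤ F → B = K ∨ B = F := fun B hB hKB hBF => by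
      by_contra hc
      push Not at hc
      exact hc.2 (eq_of_le_of_card_ge hBF
        (hmin B ⟨hB, lt_of_le_of_ne hKB (Ne.symm hc.1), hBF.trans hFI⟩))
    obtain ⟨-, r, m, hr, -, hcard, -⟩ := SolvableDivisor.chief_factor hKF' hminF
    have hrel : K.relIndex F = r ^ m := by
      rw [← hcard, ← relIndex_ker, QuotientGroup.ker_mk']
    obtain ⟨s, _, S, hS⟩ := exists_nonnormal_sylow (X := F) fun hn =>
      hKF'.not_ge ((le_fitting hn).trans hKF.ge)
    obtain ⟨a, ha⟩ := S.isPGroup'.exists_card_eq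
    have hsr : s = r := by
      by_contra hsr
      have hSK : (S : Subgroup F) ≤ K.subgroupOf F := by
        rw [← relIndex_eq_one]
        refine Nat.eq_one_of_dvd_coprimes (((Nat.coprime_primes Fact.out hr).2 hsr).pow a m)
          (ha ▸ ((K.subgroupOf F).subgroupOf (S : Subgroup F)).index_dvd_card) ?_
        rw [← hrel]
        exact relIndex_dvd_index_of_normal (K.subgroupOf F) _
      haveI : Group.IsNilpotent (K.subgroupOf F) :=
        Group.nilpotent_of_mulEquiv (subgroupOfEquivOfLe hKF'.le).symm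
      have hall : ∀ (p : ℕ) (_ : Fact p.Prime) (P : Sylow p (K.subgroupOf F)),
          (P : Subgroup (K.subgroupOf F)).Normal :=
        ((Group.isNilpotent_of_finite_tfae (G := K.subgroupOf F)).out 0 3).1 ‹_›
      have hn : ((S.subtype hSK : Sylow s (K.subgroupOf F)) : Subgroup (K.subgroupOf F)).Normal :=
        hall s inferInstance _
      haveI := (S.subtype hSK).characteristic_of_normal hn
      have h2 := ConjAct.normal_of_characteristic_of_normal (H := K.subgroupOf F)
        (K := ((S.subtype hSK : Sylow s (K.subgroupOf F)) : Subgroup (K.subgroupOf F)))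
      rw [Sylow.coe_subtype, map_subgroupOf_eq_of_le hSK] at h2
      exact hS h2
    obtain ⟨M, hM, hSM, hFM, hD⟩ := exists_supplement S hS
    have hFeq : F ≤ K ⊔ (S : Subgroup F).map F.subtype := by
      have h1 : K.subgroupOf F ⊔ (S : Subgroup F) = ⊤ := by
        rw [← index_eq_one]
        refine Nat.eq_one_of_dvd_coprimes ?_ (index_dvd_of_le (le_sup_left : K.subgroupOf F ≤ _))
          (index_dvd_of_le le_sup_right)
        rw [show (K.subgroupOf F).index = r ^ m from hrel]
        exact (hr.coprime_iff_not_dvd.2 (hsr ▸ S.not_dvd_index)).pow_left m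
      have h2 := congrArg (Subgroup.map F.subtype) h1
      rw [Subgroup.map_sup, map_subgroupOf_eq_of_le hKF'.le, ← MonoidHom.range_eq_map, F.range_subtype] at h2
      exact h2.ge
    have hKM : K ⊔ M = ⊤ := top_le_iff.1 (hFM ▸ sup_le (hFeq.trans
      (sup_le le_sup_left (hSM.trans le_sup_right))) le_sup_right)
    obtain ⟨-, hcore⟩ := vanish hχ hK hno hM hKM
    refine hD (F ⊓ M.normalCore) inferInstance inf_le_left (inf_le_right.trans (normalCore_le M))
      fun x hx => mem_inf.2 ⟨map_subtype_le _ hx, ?_⟩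
    have hxF : x ∈ F := map_subtype_le _ hx
    have h1 : x ∈ ((M.normalCore ⊔ K : Subgroup G) : Set G) := (hI x).1 (hFI hxF) M hM hKM
    rw [normal_mul] at h1
    obtain ⟨c, hc, k, hk, rfl⟩ := Set.mem_mul.1 h1
    have hkM : k ∈ M := by
      simpa using mul_mem (inv_mem (normalCore_le M hc)) (hSM hx)
    exact mul_mem hc (hcore (mem_inf.2 ⟨hk, hkM⟩))
  -- `χ` vanishes off its kernel
  have hne : Cfsg.classInner χ (fun _ => 1) ≠ 0 := by
    rw [classInner_def]
    refine mul_ne_zero (inv_ne_zero (by exact_mod_cast Nat.card_pos.ne')) ?_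
    have h1 : ∀ g, χ g * conj (1 : ℂ) = if g ∈ K then χ 1 else 0 := fun g => by
      rw [map_one, mul_one]
      split_ifs with hg
      · exact (hK g).1 hg
      · by_contra h0
        exact hg (hIK ▸ hsupp g h0)
    rw [Finset.sum_congr rfl fun g _ => h1 g, ← Finset.sum_filter, Finset.sum_const, nsmul_eq_mul]
    refine mul_ne_zero ?_ (IsIrrCharacter.apply_one_ne_zero hχ)
    exact_mod_cast (Finset.card_pos.2 ⟨1, Finset.mem_filter.2 ⟨Finset.mem_univ _, one_mem K⟩⟩).ne'
  have hone : χ = fun _ => 1 := by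
    by_contra h0
    exact hne (IsIrrCharacter.classInner_of_ne hχ isIrrCharacter_one h0)
  exact hKt (eq_top_iff.2 fun g _ => (hK g).2 (by rw [hone]))

end CfsgLib.LargerDegree
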