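import Cfsg.Prelude.Def_Blocks
import Cfsg.Agent.Dickson.Tame
import Cfsg.Agent.Char.DegreeRatio
import Cfsg.Agent.Char.Kernel
import Cfsg.Agent.Char.NormalSub
import Mathlib.GroupTheory.Index

/-!
# Primitive faithful characters of degree two

The image in `PGL₂(ℂ)` has order `12`, `24` or `60`.
-/

set_option autoImplicit false
set_option linter.unusedSectionVars false
set_option linter.style.haveILetI false

namespace CfsgLib.PrimitiveTwo

open Matrix OnePoint CfsgLib.Dickson CfsgLib.Char

universe u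

/-- Two matrices fixing the same two points of the projective line commute. -/
theorem comm_of_fix {K : Type*} [Field K] [DecidableEq K] {x y : OnePoint K} (hxy : x ≠ y)
    (a b : GL (Fin 2) K) (hax : a • x = x) (hay : a • y = y) (hbx : b • x = x) (hby : b • y = y) :
    a * b = b * a := by
  obtain ⟨k, hk1, hk2⟩ := exists_smul_pair hxy
  induction k using ProjGenLinGroup.induction_on with
  | mk k =>
    rw [mk_smul_eq] at hk1 hk2
    have key : ∀ c : GL (Fin 2) K, c • x = x → c • y = y →
        (k * c * k⁻¹) 1 0 = 0 ∧ (k * c * k⁻¹) 0 1 = 0 := by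
      intro c hcx hcy
      have h1 : (k * c * k⁻¹) • (∞ : OnePoint K) = ∞ := by
        rw [← hk1, mul_smul, mul_smul, inv_smul_smul, hcx]
      have h2 : (k * c * k⁻¹) • ((0 : K) : OnePoint K) = ((0 : K) : OnePoint K) := by
        rw [← hk2, mul_smul, mul_smul, inv_smul_smul, hcy]
      obtain ⟨d, hd⟩ : ∃ d, k * c * k⁻¹ = d := ⟨_, rfl⟩
      rw [hd] at h1 h2 ⊢
      rw [smul_infty_eq_self_iff] at h1
      have hd' : d 1 1 ≠ 0 := fun h => d.det_ne_zero (by simp [det_fin_two, h1, h])
      rw [smul_some_eq_ite] at h2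
      simp [h1, hd'] at h2
      exact ⟨h1, h2⟩
    obtain ⟨ha1, ha2⟩ := key a hax hay
    obtain ⟨hb1, hb2⟩ := key b hbx hby
    have hdiag : ∀ u v : GL (Fin 2) K, u 1 0 = 0 → u 0 1 = 0 → v 1 0 = 0 → v 0 1 = 0 →
        u * v = v * u := by
      intro u v h1 h2 h3 h4
      ext i j
      fin_cases i <;> fin_cases j <;>
        simp [Units.val_mul, Matrix.mul_apply, Fin.sum_univ_two, h1, h2, h3, h4, mul_comm]
    have h := hdiag _ _ ha1 ha2 hb1 hb2
    have e1 : k * (a * b) * k⁻¹ = k * (b * a) * k⁻¹ := by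
      calc k * (a * b) * k⁻¹ = k * a * k⁻¹ * (k * b * k⁻¹) := by group
        _ = k * b * k⁻¹ * (k * a * k⁻¹) := h
        _ = _ := by group
    exact mul_left_cancel (mul_right_cancel e1)

/-- A finite subgroup of `PGL₂` in characteristic zero has no unipotent element. -/
theorem unipotents_eq_empty {K : Type*} [Field K] [DecidableEq K] [CharZero K]
    (H : Subgroup (PGL2 K)) [Finite H] : unipotents H = ∅ := by
  ext g
  simp only [Set.mem_empty_iff_false, iff_false]
  rintro ⟨hgH, hg, hfix⟩
  obtain ⟨x, hx⟩ := Set.ncard_eq_one.1 hfix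
  obtain ⟨k, hk⟩ := exists_smul_eq_infty x
  have hf : fix (k * g * k⁻¹) = {∞} := by rw [fix_conj, hx, Set.image_singleton, hk]
  obtain ⟨u, a, he⟩ := eq_aff_of_fix_infty (hf ▸ rfl : (∞ : OnePoint K) ∈ fix (k * g * k⁻¹))
  have hu : u = 1 := by
    by_contra hu
    rw [he, fix_aff_ne_one hu] at hf
    have : ((a / (1 - (u : K)) : K) : OnePoint K) ∈ ({∞} : Set (OnePoint K)) := hf ▸ Or.inr rfl
    exact coe_ne_infty _ this
  subst hu
  obtain ⟨n, hn, hgn⟩ : ∃ n, 0 < n ∧ g ^ n = 1 :=
    ⟨Nat.card H, Nat.card_pos, congrArg Subtype.val (pow_card_eq_one' (x := (⟨g, hgH⟩ : H)))⟩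
  have h1 : (k * g * k⁻¹) ^ n = 1 := by rw [conj_pow, hgn]; simp
  rw [he, aff_one_pow, aff_eq_one] at h1
  have ha : a = 0 := (mul_eq_zero.1 h1.2).resolve_left (by exact_mod_cast hn.ne')
  rw [ha, aff_one_zero, mul_inv_eq_one, mul_eq_left] at he
  exact hg he

/-- The centre of a group with a primitive faithful character of degree two. -/
theorem index_center {G : Type u} [Group G] [Fintype G] {χ : G → ℂ} (hχ : Cfsg.IsIrrCharacter G χ)
    (hfaith : ∀ g, χ g = χ 1 → g = 1) (h2 : χ 1 = 2)
    (hprim : ∀ H : Subgroup G, H ≠ ⊤ → ∀ θ : H → ℂ, Cfsg.IsCharacter H θ → χ ≠ Cfsg.indFun H θ) :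
    (Subgroup.center G).index = 12 ∨ (Subgroup.center G).index = 24 ∨
      (Subgroup.center G).index = 60 := by
  classical
  obtain ⟨n, ρ, hρ, hρχ⟩ := id hχ
  haveI := hρ
  obtain rfl : n = 2 := by
    have h := congrFun hρχ 1
    rw [ρ.char_one, h2, Module.finrank_fin_fun] at h
    exact_mod_cast h
  have hinj : Function.Injective ρ := by
    intro a b hab
    refine mul_inv_eq_one.1 (hfaith _ ?_)
    rw [← hρχ]
    simp only [Representation.character]
    rw [map_mul ρ, hab, ← map_mul ρ, mul_inv_cancel]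
  obtain ⟨f, hf⟩ : ∃ f : G →* GL (Fin 2) ℂ,
      ∀ g, ((f g : GL (Fin 2) ℂ) : Matrix (Fin 2) (Fin 2) ℂ) = LinearMap.toMatrixAlgEquiv' (ρ g) :=
    ⟨(Units.map ((LinearMap.toMatrixAlgEquiv' (R := ℂ) (n := Fin 2)).toRingEquiv.toMonoidHom :
      Module.End ℂ (Fin 2 → ℂ) →* Matrix (Fin 2) (Fin 2) ℂ)).comp (MonoidHom.toHomUnits ρ), fun _ => rfl⟩
  have hfinj : Function.Injective f := fun a b hab => hinj (LinearMap.toMatrixAlgEquiv'.injective (by
    rw [← hf, ← hf, hab]))
  obtain ⟨F, hF⟩ : ∃ F : G →* PGL2 ℂ, ∀ g, F g = ProjGenLinGroup.mk (f g) :=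
    ⟨(ProjGenLinGroup.mk).comp f, fun _ => rfl⟩
  have hker : F.ker = Subgroup.center G := by
    ext g
    rw [MonoidHom.mem_ker, hF, ProjGenLinGroup.mk_eq_one, Subgroup.mem_center_iff, Subgroup.mem_center_iff]
    refine ⟨fun h y => hfinj (by rw [map_mul, map_mul, h]), fun h y => Units.ext ?_⟩
    have hs := eq_smul_one_of_commute ρ (ρ g) fun y => by rw [← map_mul, ← map_mul, h]
    rw [Units.val_mul, Units.val_mul, hf, hs, _root_.map_smul, map_one, mul_smul_comm, smul_mul_assoc,
      mul_one, one_mul]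
  have hindex : (Subgroup.center G).index = Nat.card F.range := by
    rw [← hker, Subgroup.index_ker]
  have hsmul : ∀ (g : G) (z : OnePoint ℂ), F g • z = f g • z := fun g z => by rw [hF, mk_smul_eq]
  rcases tame F.range (unipotents_eq_empty F.range) with h | h | h | h | h
  · exfalso
    obtain ⟨x, y, hxy, hfix⟩ := h
    have hcomm : ∀ a b : G, a * b = b * a := fun a b => hfinj (by
      rw [map_mul, map_mul]
      refine comm_of_fix hxy _ _ ?_ ?_ ?_ ?_ <;> rw [← hsmul]
      exacts [(hfix _ ⟨a, rfl⟩).1, (hfix _ ⟨a, rfl⟩).2, (hfix _ ⟨b, rfl⟩).1, (hfix _ ⟨b, rfl⟩).2])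
    have := IsIrrCharacter.apply_one_eq_one hχ hcomm
    rw [h2] at this
    norm_num at this
  · exfalso
    obtain ⟨x, y, hxy, hperm, ⟨_, ⟨s, rfl⟩, hs⟩, -⟩ := h
    obtain ⟨K, hK⟩ : ∃ K : Subgroup G, ∀ g, g ∈ K ↔ F g • x = x :=
      ⟨(MulAction.stabilizer (PGL2 ℂ) x).comap F, fun g => Iff.rfl⟩
    have hKy : ∀ g ∈ K, F g • y = y := fun g hg => by
      rcases hperm _ ⟨g, rfl⟩ with h | h
      · exact h.2
      · exact absurd (((hK g).1 hg).symm.trans h.1) hxy
    have hout : ∀ g, g ∉ K → F g • x = y ∧ F g • y = x := fun g hg => by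
      rcases hperm _ ⟨g, rfl⟩ with h | h
      · exact absurd ((hK g).2 h.1) hg
      · exact h
    have hsK : s ∉ K := fun h => hxy (((hK s).1 h).symm.trans hs)
    have hidx : K.index = 2 := by
      refine Subgroup.index_eq_two_iff.2 ⟨s, fun g => ?_⟩
      by_cases hg : g ∈ K
      · refine Or.inr ⟨hg, fun h => hsK ?_⟩
        simpa using K.mul_mem (K.inv_mem hg) h
      · refine Or.inl ⟨(hK _).2 ?_, hg⟩
        rw [map_mul, mul_smul, hs, (hout g hg).2]
    haveI : K.Normal := Subgroup.normal_of_index_eq_two hidx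
    have hKc : ∀ a b : K, a * b = b * a := fun a b => Subtype.ext (hfinj (by
      rw [Subgroup.coe_mul, Subgroup.coe_mul, map_mul, map_mul]
      refine comm_of_fix hxy _ _ ?_ ?_ ?_ ?_ <;> rw [← hsmul]
      exacts [(hK _).1 a.2, hKy _ a.2, (hK _).1 b.2, hKy _ b.2]))
    haveI := Fintype.ofFinite K
    obtain ⟨θ, hθ, hc⟩ := exists_constituent_restrict (N := K) hχ
    have hθ1 : θ 1 = 1 := IsIrrCharacter.apply_one_eq_one hθ hKc
    obtain ⟨e, he⟩ := IsCharacter.exists_classInner_eq_natCast
      (IsCharacter.restrict (IsIrrCharacter.isCharacter hχ) K) hθ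
    obtain ⟨I, hI⟩ : ∃ I, inertia θ = I := ⟨_, rfl⟩
    have hKI : K ≤ I := hI ▸ le_inertia (IsIrrCharacter.isClassFunction hθ)
    have hIK : I ≠ ⊤ := by
      intro htop
      have hres := restrict_eq_smul_of_invariant hχ hθ (hI.trans htop) hc
      obtain ⟨lam, hlam⟩ := IsCharacter.exists_hom (IsIrrCharacter.isCharacter hθ) hθ1
      have hKZ : K ≤ Subgroup.center G := by
        intro a ha
        have h1 := congrFun hres ⟨a, ha⟩
        have h3 := congrFun hres 1
        simp only [Pi.smul_apply, smul_eq_mul, OneMemClass.coe_one, h2, hθ1, mul_one] at h3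
        simp only [Pi.smul_apply, smul_eq_mul] at h1
        rw [← h3, hlam] at h1
        obtain ⟨w, hw⟩ := (norm_character_eq_iff ρ a).1 (by
          rw [hρχ, h1, norm_mul, norm_hom_eq_one lam, mul_one]
          simp)
        rw [Subgroup.mem_center_iff]
        intro g
        refine hinj ?_
        rw [map_mul, map_mul, hw, ← Module.End.one_eq_id, mul_smul_comm, smul_mul_assoc, mul_one,
          one_mul]
      have hgen : ∀ g : G, g ∈ Subgroup.center G ∨ g * s ∈ Subgroup.center G := fun g => by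
        by_cases hg : g ∈ K
        · exact Or.inl (hKZ hg)
        · exact Or.inr (hKZ ((hK _).2 (by rw [map_mul, mul_smul, hs, (hout g hg).2])))
      have hsc : ∀ g : G, g * s = s * g := fun g => by
        rcases hgen g with h | h
        · exact (Subgroup.mem_center_iff.1 h s).symm
        · have h4 := Subgroup.mem_center_iff.1 h s
          exact mul_right_cancel (h4.symm.trans (mul_assoc s g s).symm)
      have hcomm : ∀ a b : G, a * b = b * a := fun a b => by
        rcases hgen a with h | h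
        · exact (Subgroup.mem_center_iff.1 h b).symm
        · have h4 := Subgroup.mem_center_iff.1 h b
          refine mul_right_cancel (b := s) ?_
          calc a * b * s = a * (s * b) := by rw [mul_assoc, hsc b]
            _ = a * s * b := (mul_assoc a s b).symm
            _ = b * (a * s) := h4.symm
            _ = b * a * s := (mul_assoc b a s).symm
      have := IsIrrCharacter.apply_one_eq_one hχ hcomm
      rw [h2] at this
      norm_num at this
    have hIeq : inertia θ ≤ K := by
      rw [hI]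
      intro g hg
      by_contra hgK
      apply hIK
      rw [eq_top_iff]
      intro a _
      by_cases ha : a ∈ K
      · exact hKI ha
      · have h1 : a * g⁻¹ ∈ K := (Subgroup.mul_mem_iff_of_index_two hidx).2
          ⟨fun h => absurd h ha, fun h => absurd (K.inv_mem_iff.1 h) hgK⟩
        simpa using I.mul_mem (hKI h1) hg
    have hirr := isIrrCharacter_indFun_of_inertia_le hθ hIeq
    have hne := (classInner_indFun_ne_zero_iff (IsIrrCharacter.isClassFunction hχ) θ).2 hc
    have heq : Cfsg.indFun K θ = χ := by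
      by_contra h
      exact hne (IsIrrCharacter.classInner_of_ne hirr hχ h)
    exact hprim K (fun h => hsK (h ▸ Subgroup.mem_top s)) θ (IsIrrCharacter.isCharacter hθ) heq.symm
  · exact Or.inl (hindex.trans h.1)
  · exact Or.inr (Or.inl (hindex.trans h.1))
  · exact Or.inr (Or.inr (hindex.trans h.1))

end CfsgLib.PrimitiveTwo
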