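import Mathlib.LinearAlgebra.Trace
import Mathlib.LinearAlgebra.FiniteDimensional.Lemmas
import Mathlib.LinearAlgebra.FiniteDimensional.Basic
import Mathlib.RingTheory.Nilpotent.Basic
import Mathlib.Algebra.CharP.Basic

/-!
# A double commutator primitive for a nilpotent endomorphism

For nilpotent `N` there is `Y` with `[N, [N, Y]] = -2 N`, and, when `N` is nonzero of small
nilpotency, `B` killed by the triple commutator whose pairing with `N` is nonzero while the pairing
with `N ^ 2 * S` vanishes for every `S` commuting with `N`.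
-/

set_option autoImplicit false
set_option linter.unusedSectionVars false

namespace CfsgLib.SmallDegree

open Finset LinearMap

variable {k V : Type*} [Field k] [AddCommGroup V] [Module k V] [FiniteDimensional k V]

/-- The commutator. -/
def br (A B : Module.End k V) : Module.End k V := A * B - B * A

theorem br_add (A B C : Module.End k V) : br A (B + C) = br A B + br A C := by
  simp only [br, mul_add, add_mul]; abel

theorem br_mul_right {A C : Module.End k V} (h : Commute A C) (B : Module.End k V) :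
    br A (B * C) = br A B * C := by
  simp only [br, sub_mul, mul_assoc, h.eq]

theorem br_mul_left {A C : Module.End k V} (h : Commute A C) (B : Module.End k V) :
    br A (C * B) = C * br A B := by
  simp only [br, mul_sub, ← mul_assoc, h.eq]

theorem trace_br (N A C : Module.End k V) :
    trace k V (br N A * C) = -trace k V (A * br N C) := by
  simp only [br, sub_mul, mul_sub, map_sub]
  rw [mul_assoc N A C, trace_mul_comm k N (A * C), mul_assoc A C N, mul_assoc A N C]
  abel

/-- The weights of the block. -/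
def weight (r l : ℕ) : k := (l : k) * ((r : k) - l)

theorem six_mul_sum_weight (r m : ℕ) : 6 * ∑ l ∈ range m, weight (k := k) r l =
    3 * r * m * ((m : k) - 1) - m * ((m : k) - 1) * (2 * m - 1) := by
  induction m with
  | zero => simp
  | succ m ih => rw [sum_range_succ, mul_add, ih, weight]; push_cast; ring

theorem rankOne_apply (c : k) (f : V →ₗ[k] k) (T : Module.End k V) (u A : V) :
    ((c • (f ∘ₗ T).smulRight u : V →ₗ[k] V) : Module.End k V) A = (c * f (T A)) • u := by
  show c • (f (T A) • u) = _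
  rw [smul_smul]

/-- The trace of a product with a sum of rank one maps. -/
theorem trace_eq_sum (r : ℕ) (Y C : Module.End k V) {N : Module.End k V} (ψ : V →ₗ[k] k) (w : V)
    (hY : ∀ A, Y A = ∑ l ∈ range r,
      (weight r l * ψ ((N ^ (r - 1 - l)) A)) • (N ^ (l - 1)) w) :
    trace k V (C * Y) =
      ∑ l ∈ range r, weight r l * ψ ((N ^ (r - 1 - l)) (C ((N ^ (l - 1)) w))) := by
  have e : C * Y = ∑ l ∈ range r,
      weight r l • (ψ ∘ₗ N ^ (r - 1 - l)).smulRight (C ((N ^ (l - 1)) w)) :=
    LinearMap.ext fun A => by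
      simp only [Module.End.mul_apply, hY, map_sum, map_smul, LinearMap.sum_apply]
      exact sum_congr rfl fun l _ => (rankOne_apply ..).symm
  rw [e, map_sum]
  refine sum_congr rfl fun l _ => ?_
  rw [map_smul, trace_smulRight, smul_eq_mul, LinearMap.comp_apply]

/-- A block inside the image of an idempotent. -/
theorem exists_block {N P : Module.End k V} (hN : IsNilpotent N) (hP : P * P = P) (hNP : Commute N P)
    (hne : N * P ≠ 0) :
    ∃ (r : ℕ) (q Y : Module.End k V), 2 ≤ r ∧ N ^ r * P = 0 ∧ N ^ (r - 1) * P ≠ 0 ∧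
      q * q = q ∧ q * P = q ∧ P * q = q ∧ Commute N q ∧ q ≠ 0 ∧ br N (br N Y) = -(2 * (N * q)) ∧
      trace k V (N * Y) = ∑ l ∈ range r, weight r l ∧
      ∀ S : Module.End k V, Commute N S → N ^ r = 0 → trace k V (N ^ 2 * S * Y) = 0 := by
  classical
  obtain ⟨m, hm⟩ := hN
  have hex : ∃ j, N ^ j * P = 0 := ⟨m, by rw [hm, zero_mul]⟩
  set r := Nat.find hex with hr
  have hr0 : N ^ r * P = 0 := Nat.find_spec hex
  have hmin : ∀ j < r, N ^ j * P ≠ 0 := fun j hj => Nat.find_min hex hj
  have hr2 : 2 ≤ r := by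
    by_contra h
    have h0 : N ^ 1 * P = 0 := by
      rcases Nat.lt_succ_iff.1 (show r < 2 by omega) |>.eq_or_lt with h1 | h1
      · rw [← h1]; exact hr0
      · have : P = 0 := by simpa [show r = 0 by omega] using hr0
        rw [this, mul_zero]
    exact hne (by rwa [pow_one] at h0)
  obtain ⟨v, hv⟩ : ∃ v, (N ^ (r - 1) * P) v ≠ 0 := by
    by_contra hall
    push Not at hall
    exact hmin (r - 1) (by omega) (LinearMap.ext fun v => by simpa using hall v)
  set w := P v with hw
  have hPw : P w = w := by rw [hw, ← Module.End.mul_apply, hP]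
  have hcomm : ∀ j, Commute (N ^ j) P := fun j => hNP.pow_left j
  have hPN : ∀ j, P ((N ^ j) w) = (N ^ j) w := fun j => by
    rw [← Module.End.mul_apply, ← (hcomm j).eq, Module.End.mul_apply, hPw]
  have hkill : ∀ j, r ≤ j → (N ^ j) w = 0 := fun j hj => by
    rw [hw, ← Module.End.mul_apply, ← Nat.sub_add_cancel hj, pow_add, mul_assoc, hr0, mul_zero,
      LinearMap.zero_apply]
  have hadd : ∀ a b, (N ^ a) ((N ^ b) w) = (N ^ (a + b)) w := fun a b => by
    rw [pow_add, Module.End.mul_apply]
  -- the top vector lies outside the span of the others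
  obtain ⟨ψ₀, hψ₀⟩ : ∃ ψ₀ : V →ₗ[k] k, ψ₀ ((N ^ (r - 1)) w) = 1 ∧
      ∀ j < r - 1, ψ₀ ((N ^ j) w) = 0 := by
    have key : (N ^ (r - 1)) w ∉
        Submodule.span k (Set.range fun j : Fin (r - 1) => (N ^ (j : ℕ)) w) := by
      intro hmem
      obtain ⟨c, hc⟩ := (Submodule.mem_span_range_iff_exists_fun k).1 hmem
      have hzero : ∀ j, ∀ hj : j < r - 1, c ⟨j, hj⟩ = 0 := by
        intro j
        induction j using Nat.strong_induction_on with
        | _ j ih =>
          intro hj
          have h := congrArg (N ^ (r - 1 - j)) hc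
          rw [map_sum, hadd, hkill (r - 1 - j + (r - 1)) (by omega)] at h
          rw [Finset.sum_eq_single ⟨j, hj⟩] at h
          · rw [map_smul, hadd, show r - 1 - j + j = r - 1 by omega] at h
            exact (smul_eq_zero.1 h).resolve_right (by simpa using hv)
          · intro i _ hi
            rcases lt_or_gt_of_ne (show (i : ℕ) ≠ j from fun e => hi (Fin.ext e)) with h' | h'
            · rw [ih i h' i.2, zero_smul, map_zero]
            · rw [map_smul, hadd, hkill _ (by omega), smul_zero]
          · exact fun h' => absurd (mem_univ _) h'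
      have h0 : (N ^ (r - 1)) w = 0 := by
        rw [← hc]
        exact sum_eq_zero fun i _ => by rw [hzero i i.2, zero_smul]
      exact hv (by simpa using h0)
    obtain ⟨f, hf, hker⟩ := Submodule.exists_le_ker_of_notMem key
    refine ⟨(f ((N ^ (r - 1)) w))⁻¹ • f, by simp [hf], fun j hj => ?_⟩
    have := hker (Submodule.subset_span ⟨⟨j, hj⟩, rfl⟩)
    rw [LinearMap.mem_ker] at this
    simp [this]
  obtain ⟨ψ, hψ, hψP, hψN⟩ : ∃ ψ : V →ₗ[k] k, (∀ j, ψ ((N ^ j) w) = if j = r - 1 then 1 else 0) ∧
      (∀ A, ψ (P A) = ψ A) ∧ ∀ j, r ≤ j → ∀ A, ψ ((N ^ j) A) = 0 := by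
    refine ⟨ψ₀ ∘ₗ P, fun j => ?_, fun A => ?_, fun j hj A => ?_⟩
    · rw [LinearMap.comp_apply, hPN]
      split_ifs with h
      · rw [h]; exact hψ₀.1
      · by_cases h' : j < r - 1
        · exact hψ₀.2 j h'
        · rw [hkill j (by omega), map_zero]
    · rw [LinearMap.comp_apply, LinearMap.comp_apply, ← Module.End.mul_apply, hP]
    · rw [LinearMap.comp_apply, ← Module.End.mul_apply, ← (hcomm j).eq, ← Nat.sub_add_cancel hj,
        pow_add, mul_assoc, hr0, mul_zero, LinearMap.zero_apply, map_zero]
  -- coordinates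
  obtain ⟨q, hq⟩ : ∃ q : Module.End k V,
      ∀ A, q A = ∑ l ∈ range r, ψ ((N ^ (r - 1 - l)) A) • (N ^ l) w :=
    ⟨∑ l ∈ range r, (ψ ∘ₗ N ^ (r - 1 - l)).smulRight ((N ^ l) w), fun A => by simp⟩
  obtain ⟨Y, hY⟩ : ∃ Y : Module.End k V, ∀ A, Y A = ∑ l ∈ range r,
      (weight r l * ψ ((N ^ (r - 1 - l)) A)) • (N ^ (l - 1)) w :=
    ⟨∑ l ∈ range r, weight r l • (ψ ∘ₗ N ^ (r - 1 - l)).smulRight ((N ^ (l - 1)) w), fun A => by
      rw [LinearMap.sum_apply]
      exact sum_congr rfl fun l _ => rankOne_apply ..⟩
  have hqw : ∀ j, j < r → q ((N ^ j) w) = (N ^ j) w := by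
    intro j hj
    rw [hq, Finset.sum_eq_single j]
    · rw [hadd, hψ, if_pos (by omega), one_smul]
    · intro l hl hlj
      rw [Finset.mem_range] at hl
      rw [hadd, hψ, if_neg (by omega), zero_smul]
    · exact fun h => absurd (Finset.mem_range.2 hj) h
  refine ⟨r, q, Y, hr2, hr0, hmin _ (by omega), ?_, ?_, ?_, ?_, ?_, ?_, ?_, ?_⟩
  · refine LinearMap.ext fun A => ?_
    rw [Module.End.mul_apply, hq A, map_sum]
    exact sum_congr rfl fun l hl => by rw [map_smul, hqw l (Finset.mem_range.1 hl)]
  · refine LinearMap.ext fun A => ?_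
    rw [Module.End.mul_apply, hq, hq]
    refine sum_congr rfl fun l _ => ?_
    rw [← Module.End.mul_apply, (hcomm _).eq, Module.End.mul_apply, hψP]
  · refine LinearMap.ext fun A => ?_
    rw [Module.End.mul_apply, hq, map_sum]
    exact sum_congr rfl fun l _ => by rw [map_smul, hPN]
  · refine LinearMap.ext fun A => ?_
    rw [Module.End.mul_apply, Module.End.mul_apply, hq, hq, map_sum]
    have e1 : ∀ l, N ((N ^ l) w) = (N ^ (l + 1)) w := fun l => by rw [pow_succ', Module.End.mul_apply]
    have e2 : ∀ l, (N ^ (r - 1 - l)) (N A) = (N ^ (r - 1 - l + 1)) A := fun l => by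
      rw [pow_succ, Module.End.mul_apply]
    simp only [map_smul, e1, e2]
    obtain ⟨r', hr'⟩ : ∃ r', r = r' + 1 := ⟨r - 1, by omega⟩
    rw [hr', sum_range_succ, sum_range_succ', hkill (r' + 1) (by omega), smul_zero, add_zero,
      show r' + 1 - 1 - 0 + 1 = r by omega, hψN r le_rfl A, zero_smul, add_zero]
    refine sum_congr rfl fun l hl => ?_
    rw [Finset.mem_range] at hl
    rw [show r' + 1 - 1 - (l + 1) + 1 = r' + 1 - 1 - l by omega]
  · intro h0
    have h := hqw (r - 1) (by omega)
    rw [h0, LinearMap.zero_apply] at h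
    exact hv (by simpa using h.symm)
  · refine LinearMap.ext fun A => ?_
    obtain ⟨c, hc⟩ : ∃ c : ℕ → k, ∀ m, c m = ψ ((N ^ (r - 1 - m)) A) := ⟨_, fun _ => rfl⟩
    obtain ⟨W, hW⟩ : ∃ W : ℕ → V, ∀ m, W m = (N ^ m) w := ⟨_, fun _ => rfl⟩
    have t1 : N (N (Y A)) = ∑ m ∈ range r, (weight r m * c m) • W (m + 1) := by
      rw [hY, map_sum, map_sum]
      refine sum_congr rfl fun l _ => ?_
      rw [map_smul, map_smul, hW, hc]
      rcases Nat.eq_zero_or_pos l with rfl | hl
      · simp [weight]
      · congr 1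
        rw [← Module.End.mul_apply, ← sq, hadd]
        congr 2
        omega
    obtain ⟨r', hr'⟩ : ∃ r', r = r' + 2 := ⟨r - 2, by omega⟩
    have t2 : N (Y (N A)) = ∑ m ∈ range r, (weight r (m + 1) * c m) • W (m + 1) := by
      rw [hY, map_sum]
      have hzero : weight r r = (0 : k) := by simp [weight]
      have hL : ∀ l ∈ range r, N ((weight r l * ψ ((N ^ (r - 1 - l)) (N A))) • (N ^ (l - 1)) w) =
          (weight r l * ψ ((N ^ (r - l)) A)) • W l := by
        intro l hl
        rw [Finset.mem_range] at hl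
        rw [map_smul, hW, show r - l = r - 1 - l + 1 by omega, pow_succ, Module.End.mul_apply]
        rcases Nat.eq_zero_or_pos l with rfl | hl0
        · simp [weight]
        · congr 1
          rw [show l = l - 1 + 1 by omega, pow_succ', Module.End.mul_apply]
          simp
      rw [sum_congr rfl hL]
      have h1 : ∑ l ∈ range (r + 1), (weight r l * ψ ((N ^ (r - l)) A)) • W l =
          ∑ l ∈ range r, (weight r l * ψ ((N ^ (r - l)) A)) • W l := by
        rw [sum_range_succ, hzero, zero_mul, zero_smul, add_zero]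
      rw [← h1, sum_range_succ']
      simp only [weight, Nat.cast_zero, zero_mul, zero_smul, add_zero]
      refine sum_congr rfl fun m hm => ?_
      rw [hc, show r - (m + 1) = r - 1 - m by omega]
    have t3 : Y (N (N A)) = ∑ m ∈ range r, (weight r (m + 2) * c m) • W (m + 1) := by
      rw [hY, hr', sum_range_succ', sum_range_succ', sum_range_succ, sum_range_succ, hW (r' + 1 + 1),
        hkill (r' + 1 + 1) (by omega), smul_zero, add_zero]
      have e0 : ψ ((N ^ (r' + 2 - 1 - (0 + 1))) (N (N A))) = 0 := by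
        rw [← Module.End.mul_apply, ← pow_succ, ← Module.End.mul_apply, ← pow_succ]
        exact hψN _ (by omega) A
      simp only [e0, mul_zero, zero_smul, weight, Nat.cast_zero, zero_mul, add_zero]
      rw [show ((r' + 2 : ℕ) : k) - ((r' + 2 : ℕ) : k) = 0 by ring]
      simp only [mul_zero, zero_mul, zero_smul, add_zero]
      refine sum_congr rfl fun m hm => ?_
      rw [Finset.mem_range] at hm
      have e3 : ∀ a, (N ^ a) (N (N A)) = (N ^ (a + 2)) A := fun a => by
        rw [pow_succ, pow_succ, Module.End.mul_apply, Module.End.mul_apply]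
      rw [hc, hW, show m + 1 + 1 - 1 = m + 1 by omega, e3,
        show r - 1 - m = r' + 2 - 1 - (m + 1 + 1) + 2 by omega]
    simp only [br, Module.End.mul_apply, LinearMap.sub_apply, LinearMap.neg_apply, map_sub]
    rw [t1, t2, t3, show (2 : Module.End k V) = 1 + 1 by norm_num, LinearMap.add_apply,
      Module.End.one_apply, hq, map_sum, ← two_smul k (∑ x ∈ range r, N _), smul_sum, ← sum_sub_distrib,
      ← sum_sub_distrib, ← sum_sub_distrib, ← sum_neg_distrib]
    refine sum_congr rfl fun m _ => ?_
    rw [map_smul, ← hc, ← Module.End.mul_apply N, ← pow_succ', ← hW, smul_smul, ← neg_smul,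
      ← sub_smul, ← sub_smul, ← sub_smul]
    congr 1
    simp only [weight]
    push_cast
    ring
  · rw [trace_eq_sum r Y N ψ w hY]
    refine sum_congr rfl fun l hl => ?_
    rw [Finset.mem_range] at hl
    rcases Nat.eq_zero_or_pos l with rfl | hl0
    · simp [weight]
    · rw [← Module.End.mul_apply N, ← pow_succ', hadd, hψ, if_pos (by omega), mul_one]
  · intro S hS hNr
    rw [trace_eq_sum r Y (N ^ 2 * S) ψ w hY]
    refine sum_eq_zero fun l hl => ?_
    rw [Finset.mem_range] at hl
    rcases Nat.eq_zero_or_pos l with rfl | hl0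
    · simp [weight]
    · rw [Module.End.mul_apply, ← Module.End.mul_apply S, ← (hS.pow_left _).eq,
        Module.End.mul_apply, ← Module.End.mul_apply (N ^ (r - 1 - l)), ← pow_add,
        ← Module.End.mul_apply (N ^ _), ← pow_add, show r - 1 - l + 2 + (l - 1) = r by omega,
        hNr, LinearMap.zero_apply, map_zero, mul_zero]

/-- A double commutator primitive on the image of an idempotent. -/
theorem exists_primitive {N : Module.End k V} (hN : IsNilpotent N) :
    ∀ (d : ℕ) (P : Module.End k V), P * P = P → Commute N P →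
      Module.finrank k (LinearMap.range P) ≤ d → ∃ Y, br N (br N Y) = -(2 * (N * P)) := by
  intro d
  induction d with
  | zero =>
    intro P _ _ hd
    have h0 : P = 0 := LinearMap.range_eq_bot.1 (Submodule.finrank_eq_zero.1 (Nat.le_zero.1 hd))
    exact ⟨0, by simp [br, h0]⟩
  | succ d ih =>
    intro P hP hNP hd
    by_cases h0 : N * P = 0
    · exact ⟨0, by simp [br, h0]⟩
    obtain ⟨r, q, Y, -, -, -, hq, hqP, hPq, hNq, hq0, hY, -, -⟩ := exists_block hN hP hNP h0
    have hP' : (P - q) * (P - q) = P - q := by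
      rw [sub_mul, mul_sub, mul_sub, hP, hq, hqP, hPq, sub_self, sub_zero]
    have hle : LinearMap.range (P - q) ≤ LinearMap.range P := by
      rintro _ ⟨A, rfl⟩
      exact ⟨(P - q) A, by rw [← Module.End.mul_apply, mul_sub, hP, hPq]⟩
    have hlt : Module.finrank k (LinearMap.range (P - q)) < Module.finrank k (LinearMap.range P) := by
      refine Submodule.finrank_lt_finrank_of_lt (lt_of_le_of_ne hle fun he => hq0 ?_)
      refine LinearMap.ext fun A => ?_
      obtain ⟨B, hB⟩ : P (q A) ∈ LinearMap.range (P - q) := he ▸ LinearMap.mem_range_self _ _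
      have h := congrArg (P - q) hB
      rw [← Module.End.mul_apply (P - q) (P - q), hP', hB] at h
      simp only [← Module.End.mul_apply] at h
      rwa [sub_mul, hPq, hPq, hq, sub_self] at h
    obtain ⟨Y', hY'⟩ := ih (P - q) hP' (hNP.sub_right hNq) (by omega)
    refine ⟨Y + Y', ?_⟩
    rw [br_add, br_add, hY, hY', mul_sub, mul_sub]
    abel

/-- The two endomorphisms attached to a nonzero nilpotent endomorphism of small nilpotency. -/
theorem exists_pair {p : ℕ} [Fact p.Prime] [CharP k p] {N : Module.End k V} {r₀ : ℕ}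
    (hN : N ^ r₀ = 0) (hr : r₀ + 1 < p) (hne : N ≠ 0) :
    ∃ Y B : Module.End k V, br N (br N Y) = -(2 * N) ∧ br N (br N (br N B)) = 0 ∧
      trace k V (N * B) ≠ 0 ∧
      ∀ S : Module.End k V, Commute N S → trace k V (N ^ 2 * S * B) = 0 := by
  obtain ⟨Y, hY⟩ := exists_primitive ⟨r₀, hN⟩ (Module.finrank k (LinearMap.range (1 : Module.End k V))) 1
    (mul_one 1) (Commute.one_right N) le_rfl
  rw [mul_one] at hY
  obtain ⟨r, q, B, h2, hr1, hr2, -, -, -, hNq, -, hB, htr, htr2⟩ :=
    exists_block (P := (1 : Module.End k V)) ⟨r₀, hN⟩ (mul_one 1) (Commute.one_right N) (by rwa [mul_one])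
  rw [mul_one] at hr1 hr2
  have hle : r ≤ r₀ := by
    by_contra h
    exact hr2 (pow_eq_zero_of_le (by omega) hN)
  refine ⟨Y, B, hY, ?_, ?_, fun S hS => htr2 S hS hr1⟩
  · rw [hB]
    simp only [br, mul_neg, neg_mul, ← mul_assoc, (Commute.ofNat_right N 2).eq]
    rw [mul_assoc 2 N q, mul_assoc 2 N N, mul_assoc 2 (N * q) N, mul_assoc N q N, ← hNq.eq,
      mul_assoc 2 (N * N) q, mul_assoc N N q]
    abel
  · rw [htr]
    intro h
    have h6 := six_mul_sum_weight (k := k) r r
    rw [h, mul_zero] at h6
    have hz : (((r + 1) * r * (r - 1) : ℕ) : k) = 0 := by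
      push_cast [Nat.cast_sub (show 1 ≤ r by omega)]
      linear_combination -h6
    rw [CharP.cast_eq_zero_iff k p] at hz
    have hp : p.Prime := Fact.out
    rcases hp.dvd_mul.1 hz with h' | h'
    · rcases hp.dvd_mul.1 h' with h'' | h''
      · exact absurd (Nat.le_of_dvd (by omega) h'') (by omega)
      · exact absurd (Nat.le_of_dvd (by omega) h'') (by omega)
    · exact absurd (Nat.le_of_dvd (by omega) h') (by omega)

end CfsgLib.SmallDegree
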